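import Groth.Agent.CurveSq.Inter
import Groth.Agent.AVRat.SplitFamily
import Groth.Agent.HilbSum.Diff
import Groth.Agent.HilbSum.Sum
import Groth.Agent.PicPn.Main
import Groth.Agent.ThickProp.Square
import Groth.Agent.Nakai.PullIdeal
import Groth.Agent.RRSurf.Main
import Groth.Agent.ExtFund.SmoothPn
import Groth.Agent.Castel.Surface
import Groth.Agent.PnHodge.Coh
import Groth.Agent.Nakai.CartierMul
import Groth.Agent.HilbSum.Flags
import Groth.Agent.S8914
import Groth.Agent.AlgEquivCurve.RelDim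
import Groth.Agent.LimDesc.FPCancel

/-!
The ideal of the diagonal of the projective line is `O(-1,-1)`; relative divisors given by sections.
-/

set_option autoImplicit false
set_option backward.isDefEq.respectTransparency false
set_option linter.style.haveILetI false
set_option linter.unusedSectionVars false
set_option maxHeartbeats 1000000

universe u

open CategoryTheory CategoryTheory.Limits AlgebraicGeometry TopologicalSpace
open Groth.Agent.CurveRR (h)

noncomputable section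

namespace Groth.Agent.CurveSq

attribute [local instance] Nakai.clMonoid W7Cube.law

/-- the subscheme of a section has degree one over the base -/
theorem deg_one_of_section {X S : Scheme.{u}} (f : X ⟶ S) (s : S ⟶ X) (hs : s ≫ f = 𝟙 S)
    [IsClosedImmersion s] : Mor2.IsFinLocFreeOfDeg 1 (s.ker.subschemeι ≫ f) := by
  haveI : IsIso s.toImage := inferInstance
  have h1 : s.ker.subschemeι ≫ f = inv s.toImage := by
    refine (cancel_epi s.toImage).1 ?_
    rw [IsIso.hom_inv_id, ← hs]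
    exact (Scheme.Hom.toImage_imageι_assoc s f)
  haveI : IsIso (s.ker.subschemeι ≫ f) := by rw [h1]; infer_instance
  refine ⟨⟨inferInstance, inferInstance, inferInstance⟩, fun y => ?_⟩
  rw [Scheme.Hom.finrank_eq_one_of_isIso]
  rfl

/-- a closed immersion with a section pulls back to the kernel of the base change -/
theorem comap_ker_eq {Z Z' X X' : Scheme.{u}} {a : Z' ⟶ X'} {b : Z' ⟶ Z} {g : X' ⟶ X} {i : Z ⟶ X}
    [IsClosedImmersion i] (sq : IsPullback a b g i) : i.ker.comap g = a.ker := by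
  rw [← Scheme.IdealSheafData.ker_fst_of_isClosedImmersion, ← sq.isoPullback_inv_fst,
    Scheme.Hom.ker_comp_of_isIso]

variable {k : Type u} [Field k] [IsAlgClosed k]

local instance : IsProper (CohB1.ProjSpace 1 k ↘ Spec (CommRingCat.of k)) :=
  ProjMor.isProper_toSpec 1 k

theorem isIntegral_P1 : IsIntegral (CohB1.ProjSpace 1 k) := Horrocks.isIntegral_projSpace

/-- a degree minus one invertible module on the line is `O(-1)` -/
theorem cl_pointIdeal_P1 (x : Spec (CommRingCat.of k) ⟶ CohB1.ProjSpace 1 k)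
    (hx : x ≫ CohB1.ProjSpace.toSpec 1 k = 𝟙 _) :
    BlowUp.IsEffCartierIdeal x.ker ∧
      PicF.cl (ClSub.idealMod x.ker) * PicF.cl (Twist.twistProjSpace 1 k 1) = 1 := by
  haveI : SmoothOfRelativeDimension 1 (CohB1.ProjSpace.toSpec 1 k) :=
    ExtFund.smoothOfRelativeDimension_projSpace 1
  haveI : IsProper (CohB1.ProjSpace.toSpec 1 k) := ProjMor.isProper_toSpec 1 k
  haveI : IsClosedImmersion x := isClosedImmersion_of_comp_eq_id (CohB1.ProjSpace.toSpec 1 k) x hx
  haveI hiso : IsIso x.toImage := inferInstance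
  haveI : IsIso (x.ker.subschemeι ≫ CohB1.ProjSpace.toSpec 1 k) := by
    have h1 : x.ker.subschemeι ≫ CohB1.ProjSpace.toSpec 1 k = inv x.toImage := by
      refine (cancel_epi x.toImage).1 ?_
      rw [IsIso.hom_inv_id, ← hx]
      exact (Scheme.Hom.toImage_imageι_assoc x _)
    rw [h1]; infer_instance
  have hc : BlowUp.IsEffCartierIdeal x.ker :=
    HilbSum.cartier_of_field (CohB1.ProjSpace.toSpec 1 k) x.ker inferInstance
  refine ⟨hc, ?_⟩
  obtain ⟨d, ⟨e⟩⟩ := PicPn.exists_iso_any _ ((Groth.Agent.S8914.result x.ker).2 hc)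
  have hT : ∀ a : ℤ, PicF.IsInvertible (Twist.twistProjSpace 1 k a) := CohFinite.isInvertible_twist 1 k
  obtain ⟨t⟩ := TwistPairing.nonempty_twist_twist (R := k) 1 d (-d) 0 (by ring)
  obtain ⟨t₀⟩ := PnHodge.nonempty_twist_zero_iso (n := 1) (A := k)
  have hinv : ClSub.IsInverseOf (Twist.twistProjSpace 1 k (-d)) (ClSub.idealMod x.ker) :=
    ⟨TMul.commIso _ _ ≪≫ PicGrp.tensorModIso e (Iso.refl _) ≪≫ t ≪≫ t₀⟩
  letI : (Spec (CommRingCat.of k)).Over (Spec (CommRingCat.of k)) := ⟨𝟙 _⟩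
  have h := euler_twist (k := k) x hx (hT (-d)) hinv (hT 0)
  obtain ⟨t'⟩ := TwistPairing.nonempty_twist_twist (R := k) 1 0 (-d) (-d) (by ring)
  rw [euler_spec_field rfl (PicLoc.isInvertible_pullback x
    (TMul.isInvertible_tensorMod (hT 0) (hT (-d)))), CurveRR.euler_eq_of_iso t',
    Castel.euler_twist_line, Castel.euler_twist_line] at h
  obtain rfl : d = -1 := by omega
  obtain ⟨t₁⟩ := TwistPairing.nonempty_twist_twist (R := k) 1 (-1) 1 0 (by ring)
  exact Nakai.cl_inv ⟨PicGrp.tensorModIso e (Iso.refl _) ≪≫ t₁ ≪≫ t₀⟩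

/-- the product of two projective lines -/
abbrev PP (k : Type u) [Field k] : Scheme.{u} :=
  pullback (CohB1.ProjSpace.toSpec 1 k) (CohB1.ProjSpace.toSpec 1 k)

theorem smooth_fst_P1 : SmoothOfRelativeDimension 1
    (pullback.fst (CohB1.ProjSpace.toSpec 1 k) (CohB1.ProjSpace.toSpec 1 k)) :=
  haveI := smoothOfRelativeDimension_isStableUnderBaseChange (n := 1)
  MorphismProperty.pullback_fst (P := @SmoothOfRelativeDimension 1) _ _
    (ExtFund.smoothOfRelativeDimension_projSpace 1)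

theorem cartier_diag_P1 :
    Mor2.IsFinLocFreeOfDeg 1 ((pullback.diagonal (CohB1.ProjSpace.toSpec 1 k)).ker.subschemeι ≫
      pullback.fst _ _) ∧ BlowUp.IsEffCartierIdeal (pullback.diagonal (CohB1.ProjSpace.toSpec 1 k)).ker := by
  haveI : IsProper (CohB1.ProjSpace.toSpec 1 k) := ProjMor.isProper_toSpec 1 k
  haveI := smooth_fst_P1 (k := k)
  have h := deg_one_of_section (pullback.fst (CohB1.ProjSpace.toSpec 1 k) (CohB1.ProjSpace.toSpec 1 k))
    (pullback.diagonal (CohB1.ProjSpace.toSpec 1 k)) (pullback.diagonal_fst _)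
  exact ⟨h, (HilbSum.rel_of_finLocFree _ _ h.1).1⟩

/-- `O(-Δ) ⊗ O(1,1)` -/
abbrev diagTwist (k : Type u) [Field k] : (PP k).Modules :=
  CohB1.tensorMod (ClSub.idealMod (pullback.diagonal (CohB1.ProjSpace.toSpec 1 k)).ker)
    (CohB1.tensorMod
      ((Scheme.Modules.pullback (pullback.fst (CohB1.ProjSpace.toSpec 1 k) (CohB1.ProjSpace.toSpec 1 k))).obj
        (Twist.twistProjSpace 1 k 1))
      ((Scheme.Modules.pullback (pullback.snd (CohB1.ProjSpace.toSpec 1 k) (CohB1.ProjSpace.toSpec 1 k))).obj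
        (Twist.twistProjSpace 1 k 1)))

theorem cl_slice (s : Spec (CommRingCat.of k) ⟶ CohB1.ProjSpace 1 k)
    (hs : s ≫ CohB1.ProjSpace.toSpec 1 k = 𝟙 _) (a : CohB1.ProjSpace 1 k ⟶ PP k)
    (h : (a ≫ pullback.fst _ _ = 𝟙 _ ∧ a ≫ pullback.snd _ _ = CohB1.ProjSpace.toSpec 1 k ≫ s) ∨
      (a ≫ pullback.fst _ _ = CohB1.ProjSpace.toSpec 1 k ≫ s ∧ a ≫ pullback.snd _ _ = 𝟙 _)) :
    PicF.cl ((Scheme.Modules.pullback a).obj (diagTwist k)) = 1 := by
  haveI : IsProper (CohB1.ProjSpace.toSpec 1 k) := ProjMor.isProper_toSpec 1 k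
  have hw : s ≫ a = s ≫ pullback.diagonal (CohB1.ProjSpace.toSpec 1 k) := by
    rcases h with ⟨h1, h2⟩ | ⟨h1, h2⟩ <;> apply pullback.hom_ext <;>
      simp [h1, h2, reassoc_of% hs]
  have huv : ∀ {T : Scheme.{u}} (u v : T ⟶ CohB1.ProjSpace 1 k),
      u ≫ a = v ≫ pullback.diagonal (CohB1.ProjSpace.toSpec 1 k) →
      v = u ∧ u ≫ CohB1.ProjSpace.toSpec 1 k ≫ s = u := by
    intro T u v he
    have e1 := congrArg (· ≫ pullback.fst _ _) he
    have e2 := congrArg (· ≫ pullback.snd _ _) he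
    rcases h with ⟨h1, h2⟩ | ⟨h1, h2⟩ <;>
      simp only [Category.assoc, h1, h2, pullback.diagonal_fst, pullback.diagonal_snd, Category.comp_id] at e1 e2
    · exact ⟨e1.symm, e2.trans e1.symm⟩
    · exact ⟨e2.symm, e1.trans e2.symm⟩
  have sq : IsPullback s s a (pullback.diagonal (CohB1.ProjSpace.toSpec 1 k)) := by
    refine ⟨⟨hw⟩, ⟨PullbackCone.IsLimit.mk _ (fun c => c.fst ≫ CohB1.ProjSpace.toSpec 1 k)
      (fun c => ?_) (fun c => ?_) (fun c m h1 _ => ?_)⟩⟩
    · rw [Category.assoc]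
      exact (huv _ _ c.condition).2
    · rw [Category.assoc, (huv _ _ c.condition).1]
      exact (huv _ _ c.condition).2
    · rw [← h1, Category.assoc, hs, Category.comp_id]
  haveI : IsClosedImmersion s := isClosedImmersion_of_comp_eq_id (CohB1.ProjSpace.toSpec 1 k) s hs
  obtain ⟨hc, hcl⟩ := cl_pointIdeal_P1 s hs
  have hcm := comap_ker_eq sq
  obtain ⟨e⟩ := Nakai.nonempty_pullback_idealMod a (cartier_diag_P1 (k := k)).2 (hcm.symm ▸ hc)
  have hconst : PicF.cl ((Scheme.Modules.pullback (CohB1.ProjSpace.toSpec 1 k ≫ s)).obj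
      (Twist.twistProjSpace 1 k 1)) = 1 := by
    haveI : Subsingleton (Spec (CommRingCat.of k)) := inferInstanceAs (Subsingleton (PrimeSpectrum k))
    haveI : Nonempty (Spec (CommRingCat.of k)) := inferInstanceAs (Nonempty (PrimeSpectrum k))
    obtain ⟨e⟩ := PlaneBlow.nonempty_iso_structure_of_subsingleton
      (PicLoc.isInvertible_pullback s (CohFinite.isInvertible_twist 1 k 1))
    rw [← cl_pullback_comp (CohB1.ProjSpace.toSpec 1 k) s rfl]
    exact ((PicGrp.cl_eq_cl_iff _ _).2 ⟨(Scheme.Modules.pullback _).mapIso e⟩).trans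
      (cl_pullback_one _)
  rw [cl_pullback_tensor, cl_pullback_tensor, (PicGrp.cl_eq_cl_iff _ _).2 ⟨e⟩, hcm,
    cl_pullback_comp a (pullback.fst _ _) rfl, cl_pullback_comp a (pullback.snd _ _) rfl]
  rcases h with ⟨h1, h2⟩ | ⟨h1, h2⟩
  · rw [h1, h2, hconst, cl_pullback_id, mul_one]; exact hcl
  · rw [h1, h2, hconst, cl_pullback_id, one_mul]; exact hcl

open MonoidalCategory CartesianMonoidalCategory in
/-- the diagonal of the line is a divisor of bidegree `(1, 1)` -/
theorem cl_diag_P1 (x : Spec (CommRingCat.of k) ⟶ CohB1.ProjSpace 1 k)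
    (hx : x ≫ CohB1.ProjSpace.toSpec 1 k = 𝟙 _) : PicF.cl (diagTwist k) = 1 := by
  haveI : IsProper (CohB1.ProjSpace.toSpec 1 k) := ProjMor.isProper_toSpec 1 k
  haveI : SmoothOfRelativeDimension 1 (CohB1.ProjSpace.toSpec 1 k) :=
    ExtFund.smoothOfRelativeDimension_projSpace 1
  haveI := isIntegral_P1 (k := k)
  let P : Over (Spec (CommRingCat.of k)) := Over.mk (CohB1.ProjSpace.toSpec 1 k)
  haveI : IsProper P.hom := by dsimp [P]; infer_instance
  haveI : Smooth P.hom := SmoothOfRelativeDimension.smooth 1 (CohB1.ProjSpace.toSpec 1 k)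
  haveI : IsIntegral P.left := isIntegral_P1 (k := k)
  let x₀ : AVDeg.one' k ⟶ P := Over.homMk x hx
  haveI : GeometricallyIntegral P.hom := AVRat.geometricallyIntegral_of_point x₀
  have hM : PicF.IsInvertible (diagTwist k) :=
    TMul.isInvertible_tensorMod ((Groth.Agent.S8914.result _).2 (cartier_diag_P1 (k := k)).2)
      (TMul.isInvertible_tensorMod (PicLoc.isInvertible_pullback _ (CohFinite.isInvertible_twist 1 k 1))
        (PicLoc.isInvertible_pullback _ (CohFinite.isInvertible_twist 1 k 1)))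
  have key : ∀ (a : CohB1.ProjSpace 1 k ⟶ PP k),
      PicF.cl ((Scheme.Modules.pullback a).obj (diagTwist k)) = 1 →
      W7Cube.pull a (PicGrp.cls (diagTwist k) hM) = 1 := fun a h => by
    rw [W7Cube.pull_cls, PicGrp.cls_eq_one_iff]
    exact Nakai.iso_of_cl h
  have h1 := AVRat.eq_one_of_proper_fibres (X := P) (S := P) (PicGrp.cls (diagTwist k) hM) x₀
    (key (lift (AVRat.pt P x₀) (𝟙 P)).left (cl_slice x hx _ (Or.inr ⟨congrArg CommaMorphism.left (lift_fst (AVRat.pt P x₀) (𝟙 P)),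
      congrArg CommaMorphism.left (lift_snd (AVRat.pt P x₀) (𝟙 P))⟩)))
    (fun s => key (lift (𝟙 P) (AVRat.pt P s)).left (cl_slice s.left (Over.w s) _
      (Or.inl ⟨congrArg CommaMorphism.left (lift_fst (𝟙 P) (AVRat.pt P s)),
        congrArg CommaMorphism.left (lift_snd (𝟙 P) (AVRat.pt P s))⟩)))
  rw [PicGrp.cls_eq_one_iff] at h1
  exact (PicGrp.cl_eq_cl_iff _ _).2 h1

theorem comap_eq_bot_iff {Y Z : Scheme.{u}} {f : Y ⟶ Z} [QuasiCompact f] (J : Z.IdealSheafData) :
    J.comap f = ⊥ ↔ J ≤ f.ker := by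
  rw [← le_bot_iff, ← Scheme.IdealSheafData.le_map_iff_comap_le, Scheme.IdealSheafData.map_bot]

/-- a product of ideals vanishing on an integral scheme -/
theorem eq_bot_or_eq_bot_of_mul {Z : Scheme.{u}} [IsIntegral Z] {I J : Z.IdealSheafData} (h : I * J = ⊥) :
    I = ⊥ ∨ J = ⊥ := by
  have hs : I.support ⊔ J.support = ⊤ := by
    rw [← Scheme.IdealSheafData.support_mul, h, Scheme.IdealSheafData.support_bot]
  have hx : genericPoint Z ∈ I.support ⊔ J.support := by rw [hs]; trivial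
  have key : ∀ K : Z.IdealSheafData, genericPoint Z ∈ K.support → K = ⊥ := fun K hK =>
    Scheme.IdealSheafData.support_eq_top_iff.1 (TopologicalSpace.Closeds.ext (Set.eq_univ_of_univ_subset fun y _ =>
      (genericPoint_specializes y).mem_closed K.support.isClosed hK))
  exact hx.imp (key I) (key J)

variable {C : Scheme.{u}} [C.Over (Spec (CommRingCat.of k))] [IsProper (C ↘ Spec (CommRingCat.of k))]
  [Smooth (C ↘ Spec (CommRingCat.of k))] [ConnectedSpace C]

/-- `Δ + Γ_σ` is linearly equivalent to `F` -/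
theorem cl_diag_mul_graph (hdim : topologicalKrullDim C = 1) {κ : C ⟶ CohB1.ProjSpace 1 k}
    (hκ : κ ≫ CohB1.ProjSpace.toSpec 1 k = C ↘ Spec (CommRingCat.of k)) [IsFinite κ] [Flat κ]
    (hκ2 : ∀ y : CohB1.ProjSpace 1 k, κ.finrank y = 2) {σ : C ⟶ C} (hσ : σ ≫ κ = κ) (hσ1 : σ ≠ 𝟙 C)
    (hσp : σ ≫ (C ↘ Spec (CommRingCat.of k)) = C ↘ Spec (CommRingCat.of k)) :
    PicF.cl (ClSub.idealMod (pullback.diagonal (C ↘ Spec (CommRingCat.of k))).ker) *
      PicF.cl (ClSub.idealMod (graph hσp).ker) *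
        (PicF.cl ((Scheme.Modules.pullback (p1 k C)).obj (Lb κ)) *
          PicF.cl ((Scheme.Modules.pullback (p2 k C)).obj (Lb κ))) = 1 := by
  haveI : IsProper (CohB1.ProjSpace.toSpec 1 k) := ProjMor.isProper_toSpec 1 k
  haveI : SmoothOfRelativeDimension 1 (CohB1.ProjSpace.toSpec 1 k) :=
    ExtFund.smoothOfRelativeDimension_projSpace 1
  haveI : IsIntegral C := CurveRR.Easy.isIntegral_of_smooth (k := k)
  haveI hC1 : SmoothOfRelativeDimension 1 (C ↘ Spec (CommRingCat.of k)) :=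
    AlgEquivCurve.smoothOfRelativeDimension_one _ hdim
  haveI : SmoothOfRelativeDimension 1 (p1 k C) :=
    haveI := smoothOfRelativeDimension_isStableUnderBaseChange (n := 1)
    MorphismProperty.pullback_fst (P := @SmoothOfRelativeDimension 1) _ _ hC1
  haveI : LocallyOfFinitePresentation κ := by
    haveI : LocallyOfFinitePresentation (κ ≫ CohB1.ProjSpace.toSpec 1 k) := by rw [hκ]; infer_instance
    exact LimDesc.lfp_of_comp κ (CohB1.ProjSpace.toSpec 1 k)
  -- a rational point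
  haveI : CompactSpace C := QuasiCompact.compactSpace_of_compactSpace (C ↘ Spec (CommRingCat.of k))
  obtain ⟨z, -, hz⟩ := IsClosed.exists_closed_singleton (S := (Set.univ : Set C)) isClosed_univ
    Set.univ_nonempty
  haveI : LocallyOfFiniteType (Over.mk (C ↘ Spec (CommRingCat.of k))).hom := by dsimp; infer_instance
  obtain ⟨c₀, -⟩ := AVRat.exists_point (V := Over.mk (C ↘ Spec (CommRingCat.of k))) (x := z) hz
  have hP := cl_diag_P1 (c₀.left ≫ κ) (by rw [Category.assoc, hκ]; exact Over.w c₀)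
  let q := CohB1.ProjSpace.toSpec 1 k
  let K : sq k C ⟶ PP k := pullback.lift (p1 k C ≫ κ) (p2 k C ≫ κ)
    (by rw [Category.assoc, Category.assoc, hκ]; exact pullback.condition)
  let j : pullback κ κ ⟶ sq k C := pullback.lift (pullback.fst κ κ) (pullback.snd κ κ)
    (by rw [← hκ, pullback.condition_assoc])
  have sq' : IsPullback j (pullback.fst κ κ ≫ κ) K (pullback.diagonal q) := by
    refine ⟨⟨?_⟩, ⟨PullbackCone.IsLimit.mk _ (fun c => pullback.lift (c.fst ≫ p1 k C) (c.fst ≫ p2 k C) ?_)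
      (fun c => ?_) (fun c => ?_) (fun c m h1 _ => ?_)⟩⟩
    · apply pullback.hom_ext <;> simp [K, j, q, pullback.condition]
    · have e1 := congrArg (· ≫ pullback.fst _ _) c.condition
      have e2 := congrArg (· ≫ pullback.snd _ _) c.condition
      simp only [K, q, Category.assoc, pullback.lift_fst, pullback.lift_snd, pullback.diagonal_fst,
        pullback.diagonal_snd, Category.comp_id] at e1 e2
      rw [Category.assoc, Category.assoc]
      exact e1.trans e2.symm
    · apply pullback.hom_ext <;> simp [j]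
    · have e1 := congrArg (· ≫ pullback.fst _ _) c.condition
      simp only [K, q, Category.assoc, pullback.lift_fst, pullback.diagonal_fst, Category.comp_id] at e1
      simp [← e1]
    · apply pullback.hom_ext <;> simp [← h1, j]
  haveI : IsClosedImmersion (pullback.diagonal q) := inferInstance
  haveI : IsClosedImmersion j := MorphismProperty.of_isPullback (P := @IsClosedImmersion) sq'.flip inferInstance
  obtain ⟨hd1, hΔc⟩ := cartier_diag_P1 (k := k)
  have hD : (pullback.diagonal q).ker.comap K = j.ker := comap_ker_eq sq'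
  have hdeg : Mor2.IsFinLocFreeOfDeg 2 (j.ker.subschemeι ≫ p1 k C) := by
    have h1 : j.ker.subschemeι ≫ p1 k C = inv j.toImage ≫ pullback.fst κ κ := by
      refine (cancel_epi j.toImage).1 ?_
      rw [IsIso.hom_inv_id_assoc, Scheme.Hom.toImage_imageι_assoc j (p1 k C)]
      exact pullback.lift_fst _ _ _
    haveI : Flat (pullback.fst κ κ) := inferInstance
    haveI : IsFinite (pullback.fst κ κ) := inferInstance
    rw [h1]
    refine ⟨⟨inferInstance, inferInstance, inferInstance⟩, fun y => ?_⟩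
    rw [Scheme.Hom.finrank_comp_left_of_isIso, Scheme.Hom.finrank_pullback_fst]
    exact hκ2 _
  have hsec : ∀ (τ : C ⟶ C) (hτ : τ ≫ κ = κ) (hτp : τ ≫ (C ↘ Spec (CommRingCat.of k)) = C ↘ Spec (CommRingCat.of k)),
      j.ker ≤ (graph hτp).ker := fun τ hτ hτp => by
    have hfac : graph hτp = pullback.lift (𝟙 C) τ (by rw [Category.id_comp, hτ]) ≫ j := by
      apply pullback.hom_ext <;> simp [j, graph]
    rw [hfac]
    exact Scheme.Hom.le_ker_comp _ _
  have hdiag : pullback.diagonal (C ↘ Spec (CommRingCat.of k)) =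
      graph (Category.id_comp (C ↘ Spec (CommRingCat.of k))) := by
    apply pullback.hom_ext <;> simp [graph]
  have hΔ := deg_one_of_section (p1 k C) (pullback.diagonal (C ↘ Spec (CommRingCat.of k)))
    (pullback.diagonal_fst _)
  have hΓ := deg_one_of_section (p1 k C) (graph hσp) (pullback.lift_fst _ _ _)
  obtain ⟨I, hI, hDI⟩ := HilbSum.exists_diff (p1 k C) (pullback.diagonal (C ↘ Spec (CommRingCat.of k))).ker
    j.ker (by rw [hdiag]; exact hsec (𝟙 C) (Category.id_comp κ) _) 1 2 hΔ hdeg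
  have hle : I ≤ (graph hσp).ker := by
    have hmul : ((pullback.diagonal (C ↘ Spec (CommRingCat.of k))).ker * I).comap (graph hσp) = ⊥ :=
      (comap_eq_bot_iff _).2 (le_of_eq_of_le hDI.symm (hsec σ hσ hσp))
    rcases eq_bot_or_eq_bot_of_mul ((BlowUpLib.comap_mul _ _ _).symm.trans hmul) with h1 | h1
    · refine absurd ?_ hσ1
      have hle' := (comap_eq_bot_iff _).1 h1
      have hl := IsClosedImmersion.lift_fac (pullback.diagonal (C ↘ Spec (CommRingCat.of k))) (graph hσp) hle'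
      have e1 := (Category.assoc _ _ _).symm.trans (congrArg (· ≫ p1 k C) hl)
      have e2 := (Category.assoc _ _ _).symm.trans (congrArg (· ≫ p2 k C) hl)
      rw [show graph hσp ≫ p1 k C = 𝟙 C from pullback.lift_fst _ _ _, pullback.diagonal_fst,
        Category.comp_id] at e1
      rw [show graph hσp ≫ p2 k C = σ from pullback.lift_snd _ _ _, pullback.diagonal_snd,
        Category.comp_id] at e2
      exact e2.symm.trans e1
    · exact (comap_eq_bot_iff _).1 h1
  obtain rfl : I = (graph hσp).ker := HilbSum.eq_of_le (p1 k C) hle hΓ hI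
  obtain ⟨e₁⟩ := Nakai.nonempty_idealMod_mul (HilbSum.rel_of_finLocFree _ _ hΔ.1).1
    (HilbSum.rel_of_finLocFree _ _ hΓ.1).1
  have hjc : BlowUp.IsEffCartierIdeal ((pullback.diagonal q).ker.comap K) := by
    rw [hD]; exact (HilbSum.rel_of_finLocFree _ _ hdeg.1).1
  obtain ⟨e₂⟩ := Nakai.nonempty_pullback_idealMod K hΔc hjc
  have h := (cl_pullback_tensor K _ _).symm.trans
    ((PicGrp.cl_eq_cl_iff _ _).2 ⟨(Scheme.Modules.pullback K).mapIso (Nakai.iso_of_cl hP).some⟩)
  rw [cl_pullback_tensor, (PicGrp.cl_eq_cl_iff _ _).2 ⟨e₂⟩, hD, hDI, ← (PicGrp.cl_eq_cl_iff _ _).2 ⟨e₁⟩,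
    cl_pullback_comp K (pullback.fst _ _) (pullback.lift_fst _ _ _),
    cl_pullback_comp K (pullback.snd _ _) (pullback.lift_snd _ _ _),
    ← cl_pullback_comp (p1 k C) κ rfl, ← cl_pullback_comp (p2 k C) κ rfl] at h
  exact h.trans (cl_pullback_one K)

/-- `N_Δ ⊗ N ≅ F_1` in the monoid of classes -/
theorem cl_ND_mul_N (hdim : topologicalKrullDim C = 1) {κ : C ⟶ CohB1.ProjSpace 1 k}
    (hκ : κ ≫ CohB1.ProjSpace.toSpec 1 k = C ↘ Spec (CommRingCat.of k)) [IsFinite κ] [Flat κ]
    (hκ2 : ∀ y : CohB1.ProjSpace 1 k, κ.finrank y = 2) {σ : C ⟶ C} (hσ : σ ≫ κ = κ) (hσ1 : σ ≠ 𝟙 C)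
    (hσp : σ ≫ (C ↘ Spec (CommRingCat.of k)) = C ↘ Spec (CommRingCat.of k))
    {N ND : (sq k C).Modules} (hN : ClSub.IsInverseOf N (ClSub.idealMod (graph hσp).ker))
    (hND : ClSub.IsInverseOf ND (ClSub.idealMod (pullback.diagonal (C ↘ Spec (CommRingCat.of k))).ker)) :
    PicF.cl ND * PicF.cl N = PicF.cl (box k C (CohB1.tensorPow (Lb κ) 1) (CohB1.tensorPow (Lb κ) 1)) := by
  rw [Nakai.cl_tensor, cl_pullback_pow, cl_pullback_pow, pow_one, pow_one]
  have h := cl_diag_mul_graph hdim hκ hκ2 hσ hσ1 hσp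
  have a := Nakai.cl_inv hN
  have b := Nakai.cl_inv hND
  calc PicF.cl ND * PicF.cl N = PicF.cl ND * PicF.cl N * 1 := (mul_one _).symm
    _ = PicF.cl ND * PicF.cl N *
        (PicF.cl (ClSub.idealMod (pullback.diagonal (C ↘ Spec (CommRingCat.of k))).ker) *
          PicF.cl (ClSub.idealMod (graph hσp).ker) *
          (PicF.cl ((Scheme.Modules.pullback (p1 k C)).obj (Lb κ)) *
            PicF.cl ((Scheme.Modules.pullback (p2 k C)).obj (Lb κ)))) := by rw [h]
    _ = PicF.cl ND * PicF.cl (ClSub.idealMod (pullback.diagonal (C ↘ Spec (CommRingCat.of k))).ker) *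
        (PicF.cl N * PicF.cl (ClSub.idealMod (graph hσp).ker)) *
        (PicF.cl ((Scheme.Modules.pullback (p1 k C)).obj (Lb κ)) *
          PicF.cl ((Scheme.Modules.pullback (p2 k C)).obj (Lb κ))) := by ac_rfl
    _ = _ := by rw [a, b, one_mul, one_mul]

end Groth.Agent.CurveSq
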