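import Groth.Agent.CurveRR.Curve
import Groth.Agent.PnReg.WedgeLine
import Groth.Agent.ExtShX.Divisor
import Groth.Agent.SerrePn.ClosedTwist
import Groth.Agent.FrobSplit.Finrank
import Groth.Agent.TMul.Assoc
import Groth.Agent.TMul.Pullback

/-!
Adding an effective divisor to an invertible module: the restriction sequence
`0 → M → M(D) → M(D)|_D → 0` and its consequences for dimensions of cohomology.
-/

set_option autoImplicit false
set_option backward.isDefEq.respectTransparency false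
set_option linter.style.haveILetI false

universe u

open CategoryTheory CategoryTheory.Limits AlgebraicGeometry TopologicalSpace
open Groth.Agent.CohFinite (hhMap hhEquiv)
open Groth.Agent.CurveRR (h isNoetherian_of_proper)

noncomputable section

namespace Groth.Agent.CurveSq

variable {k : Type u} [Field k] {X D : Scheme.{u}} [X.Over (Spec (CommRingCat.of k))]
  [D.Over (Spec (CommRingCat.of k))] [IsProper (X ↘ Spec (CommRingCat.of k))]
  (i : D ⟶ X) [IsClosedImmersion i]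

theorem isCoh_invertible {X : Scheme.{u}} {M : X.Modules} (hM : PicF.IsInvertible M) : Coh.IsCoh M :=
  CurveRR.isCoh_of_inv hM

theorem exists_restrict_ses (hi : i ≫ (X ↘ Spec (CommRingCat.of k)) = D ↘ Spec (CommRingCat.of k))
    {N : X.Modules} (hN : PicF.IsInvertible N)
    (hinv : ClSub.IsInverseOf N (ClSub.idealMod i.ker)) {M : X.Modules} (hM : PicF.IsInvertible M) :
    ∃ S : ShortComplex X.Modules, S.ShortExact ∧
      (Coh.IsCoh S.X₁ ∧ Coh.IsCoh S.X₂ ∧ Coh.IsCoh S.X₃) ∧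
      Nonempty (S.X₁ ≅ M) ∧ Nonempty (S.X₂ ≅ CohB1.tensorMod M N) ∧
      ∀ q : ℕ, Nonempty (Coh.HH X S.X₃ q ≃ₗ[k]
        Coh.HH D ((Scheme.Modules.pullback i).obj (CohB1.tensorMod M N)) q) := by
  haveI := isNoetherian_of_proper k X
  have hMN := TMul.isInvertible_tensorMod hM hN
  have hE : FlatMod.IsFinLocFree (CohB1.tensorMod M N) := fun y =>
    let ⟨U, hU, e⟩ := CurveRR.isFinLocFreeOfRank_one hMN y; ⟨U, 1, hU, e⟩
  have hS := PnReg.shortExact_tensor hE (CurveRR.ideal_shortExact i.ker)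
  obtain ⟨eN⟩ := hinv
  obtain ⟨eq⟩ := ExtShX.nonempty_quotMod_iso i
  let e₁ : CohB1.tensorMod (ClSub.idealMod i.ker) (CohB1.tensorMod M N) ≅ M :=
    TMul.commIso _ _ ≪≫ TMul.assocIso _ _ _ ≪≫ PicGrp.tensorModIso (Iso.refl M) eN ≪≫
      TMul.commIso _ _ ≪≫ TMul.leftUnitIso M
  let e₂ : CohB1.tensorMod (Coh.structureModule X) (CohB1.tensorMod M N) ≅ CohB1.tensorMod M N :=
    TMul.leftUnitIso _
  have hc₁ := CohFinite.isCoh_of_iso e₁.symm (isCoh_invertible hM)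
  have hc₂ := CohFinite.isCoh_of_iso e₂.symm (isCoh_invertible hMN)
  refine ⟨_, hS, ⟨hc₁, hc₂, ?_⟩, ⟨e₁⟩, ⟨e₂⟩, fun q => ?_⟩
  · exact CohFinite.isCoh_tensor (CurveRR.isCoh_idealMod i.ker).2 hMN
  · haveI : Coh.IsQCoh (Coh.structureModule D) := QC.isQCoh_unit D
    obtain ⟨e⟩ := SerrePn.nonempty_hh_pushTwist k i hi (Coh.structureModule D) hMN q
    exact ⟨(hhEquiv k (PicGrp.tensorModIso eq (Iso.refl _)) q).trans
      (e.symm.trans (hhEquiv k (TMul.leftUnitIso _) q))⟩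

variable (hi : i ≫ (X ↘ Spec (CommRingCat.of k)) = D ↘ Spec (CommRingCat.of k))
  {N : X.Modules} (hN : PicF.IsInvertible N) (hinv : ClSub.IsInverseOf N (ClSub.idealMod i.ker))
  {M : X.Modules} (hM : PicF.IsInvertible M)

include hi hN hinv hM

theorem euler_twist :
    Curv2.euler k X (CohB1.tensorMod M N) = Curv2.euler k X M +
      Curv2.euler k D ((Scheme.Modules.pullback i).obj (CohB1.tensorMod M N)) := by
  obtain ⟨S, hS, ⟨h₁, h₂, h₃⟩, ⟨e₁⟩, ⟨e₂⟩, he⟩ := exists_restrict_ses i hi hN hinv hM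
  rw [← CurveRR.euler_eq_of_iso e₂, ← CurveRR.euler_eq_of_iso e₁, CurveRR.euler_add hS h₁ h₂ h₃]
  congr 1
  refine finsum_congr fun j => ?_
  obtain ⟨e⟩ := he j
  rw [e.finrank_eq]

theorem subsingleton_twist (q : ℕ) (h1 : Subsingleton (Coh.HH X M q))
    (h3 : Subsingleton (Coh.HH D ((Scheme.Modules.pullback i).obj (CohB1.tensorMod M N)) q)) :
    Subsingleton (Coh.HH X (CohB1.tensorMod M N) q) := by
  obtain ⟨S, hS, -, ⟨e₁⟩, ⟨e₂⟩, he⟩ := exists_restrict_ses i hi hN hinv hM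
  obtain ⟨e⟩ := he q
  haveI : Subsingleton (Coh.HH X S.X₁ q) := (hhEquiv k e₁ q).toEquiv.subsingleton
  haveI : Subsingleton (Coh.HH X S.X₃ q) := e.toEquiv.subsingleton
  refine @Equiv.subsingleton _ _ (hhEquiv k e₂ q).symm.toEquiv ?_
  refine ⟨fun a b => sub_eq_zero.1 ?_⟩
  have hmem : a - b ∈ LinearMap.ker (hhMap k S.g q) := LinearMap.mem_ker.2 (Subsingleton.elim _ _)
  rw [← CurveRR.range_f_eq_ker_g hS q] at hmem
  obtain ⟨c, hc⟩ := hmem
  rw [← hc, Subsingleton.elim c 0, map_zero]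

theorem h0_twist_of_h1 (h1 : Subsingleton (Coh.HH X M 1)) :
    h k (CohB1.tensorMod M N) 0 =
      h k M 0 + h k ((Scheme.Modules.pullback i).obj (CohB1.tensorMod M N)) 0 := by
  obtain ⟨S, hS, ⟨hc₁, hc₂, -⟩, ⟨e₁⟩, ⟨e₂⟩, he⟩ := exists_restrict_ses i hi hN hinv hM
  obtain ⟨e⟩ := he 0
  rw [← CurveRR.h_eq_of_iso e₂, ← CurveRR.h_eq_of_iso e₁,
    show h k ((Scheme.Modules.pullback i).obj (CohB1.tensorMod M N)) 0 = h k S.X₃ 0 from e.finrank_eq.symm]
  haveI := CohFinite.finite_proper k X _ hc₂ 0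
  haveI : Subsingleton (Coh.HH X S.X₁ 1) := (hhEquiv k e₁ 1).toEquiv.subsingleton
  have hsurj : Function.Surjective (hhMap k S.g 0) := by
    rw [← LinearMap.range_eq_top, CurveRR.range_g_eq_ker_δ hS 0]
    exact eq_top_iff.2 fun a _ => LinearMap.mem_ker.2 (Subsingleton.elim _ _)
  have h2 := LinearMap.finrank_range_add_finrank_ker (hhMap k S.g 0)
  rw [LinearMap.range_eq_top.2 hsurj, finrank_top, ← CurveRR.range_f_eq_ker_g hS 0,
    LinearMap.finrank_range_of_inj (CurveRR.injective_f hS)] at h2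
  show Module.finrank k _ = Module.finrank k _ + Module.finrank k _
  omega

theorem h0_twist_of_zero
    (h3 : h k ((Scheme.Modules.pullback i).obj (CohB1.tensorMod M N)) 0 = 0) :
    h k (CohB1.tensorMod M N) 0 = h k M 0 := by
  obtain ⟨S, hS, ⟨hc₁, hc₂, hc₃⟩, ⟨e₁⟩, ⟨e₂⟩, he⟩ := exists_restrict_ses i hi hN hinv hM
  obtain ⟨e⟩ := he 0
  rw [← CurveRR.h_eq_of_iso e₂, ← CurveRR.h_eq_of_iso e₁]
  haveI := CohFinite.finite_proper k X _ hc₃ 0
  haveI := CohFinite.finite_proper k X _ hc₂ 0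
  haveI : Subsingleton (Coh.HH X S.X₃ 0) :=
    Module.finrank_zero_iff.1 (e.finrank_eq.trans h3)
  have h2 : LinearMap.range (hhMap k S.f 0) = ⊤ := by
    rw [CurveRR.range_f_eq_ker_g hS 0]
    exact eq_top_iff.2 fun a _ => LinearMap.mem_ker.2 (Subsingleton.elim _ _)
  show Module.finrank k _ = Module.finrank k _
  rw [← finrank_top k (Coh.HH X S.X₂ 0), ← h2, LinearMap.finrank_range_of_inj (CurveRR.injective_f hS)]

theorem h1_twist (h1 : Subsingleton (Coh.HH X M 1)) (h2 : Subsingleton (Coh.HH X M 2)) :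
    h k (CohB1.tensorMod M N) 1 = h k ((Scheme.Modules.pullback i).obj (CohB1.tensorMod M N)) 1 := by
  obtain ⟨S, hS, ⟨hc₁, hc₂, -⟩, ⟨e₁⟩, ⟨e₂⟩, he⟩ := exists_restrict_ses i hi hN hinv hM
  obtain ⟨e⟩ := he 1
  rw [← CurveRR.h_eq_of_iso e₂,
    show h k ((Scheme.Modules.pullback i).obj (CohB1.tensorMod M N)) 1 = h k S.X₃ 1 from e.finrank_eq.symm]
  haveI : Subsingleton (Coh.HH X S.X₁ 1) := (hhEquiv k e₁ 1).toEquiv.subsingleton
  haveI : Subsingleton (Coh.HH X S.X₁ 2) := (hhEquiv k e₁ 2).toEquiv.subsingleton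
  refine (LinearEquiv.ofBijective (hhMap k S.g 1) ⟨?_, ?_⟩).finrank_eq
  · rw [← LinearMap.ker_eq_bot, ← CurveRR.range_f_eq_ker_g hS 1, eq_bot_iff]
    rintro - ⟨c, rfl⟩
    rw [Subsingleton.elim c 0, map_zero]
    exact Submodule.zero_mem _
  · rw [← LinearMap.range_eq_top, CurveRR.range_g_eq_ker_δ hS 1]
    exact eq_top_iff.2 fun a _ => LinearMap.mem_ker.2 (Subsingleton.elim _ _)

end Groth.Agent.CurveSq
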