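import Groth.Agent.CurveSq.Prod
import Groth.Agent.CurveSq.Ses
import Groth.Agent.W7Pencil.Invol
import Groth.Agent.W7Pencil.FieldDeg
import Groth.Agent.W7Pencil.Cover
import Groth.Agent.CurveOmega.General
import Groth.Agent.GrpOmega.Diff
import Groth.Agent.OmegaLib.FiniteType
import Groth.Agent.ExtFund.CanonRows
import Groth.Agent.Nakai.ClMul
import Groth.Agent.Horrocks.Dim
import Groth.Agent.CurveRR.Clifford
import Groth.Agent.CurveRR.Multi2
import Groth.Agent.CurveRR.Easy
import Groth.Agent.CurveRR.Deg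
import Groth.Agent.DerPerf.Local

/-!
A double cover of the line by a smooth curve of genus `g`: the bundle `L = κ^*O(1)`, the
graph of a deck transformation and its normal bundle.
-/

set_option autoImplicit false
set_option backward.isDefEq.respectTransparency false
set_option linter.style.haveILetI false
set_option linter.unusedSectionVars false
set_option maxHeartbeats 1000000

universe u

open CategoryTheory CategoryTheory.Limits AlgebraicGeometry TopologicalSpace
open Groth.Agent.CurveRR (h)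

noncomputable section

namespace Groth.Agent.CurveSq

attribute [local instance] Nakai.clMonoid

/-- Pullback of a tensor product, on classes. -/
theorem cl_pullback_tensor {X Y : Scheme.{u}} (f : X ⟶ Y) (A B : Y.Modules) :
    PicF.cl ((Scheme.Modules.pullback f).obj (CohB1.tensorMod A B)) =
      PicF.cl ((Scheme.Modules.pullback f).obj A) * PicF.cl ((Scheme.Modules.pullback f).obj B) := by
  obtain ⟨e⟩ := TMul.nonempty_pullTensorIso f A B
  exact (PicGrp.cl_eq_cl_iff _ (CohB1.tensorMod _ _)).2 ⟨e.symm⟩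

/-- Pullback of a tensor power, on classes. -/
theorem cl_pullback_pow {X Y : Scheme.{u}} (f : X ⟶ Y) (A : Y.Modules) (n : ℕ) :
    PicF.cl ((Scheme.Modules.pullback f).obj (CohB1.tensorPow A n)) =
      PicF.cl ((Scheme.Modules.pullback f).obj A) ^ n := by
  obtain ⟨e⟩ := TMul.nonempty_pullPowIso f A n
  rw [← Nakai.cl_pow]
  exact (PicGrp.cl_eq_cl_iff _ _).2 ⟨e.symm⟩

/-- Pullback along a composition, on classes. -/
theorem cl_pullback_comp {X Y Z : Scheme.{u}} (f : X ⟶ Y) (g : Y ⟶ Z) {e : X ⟶ Z} (he : f ≫ g = e)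
    (A : Z.Modules) :
    PicF.cl ((Scheme.Modules.pullback f).obj ((Scheme.Modules.pullback g).obj A)) =
      PicF.cl ((Scheme.Modules.pullback e).obj A) :=
  (PicGrp.cl_eq_cl_iff _ _).2
    ⟨(Scheme.Modules.pullbackComp f g).app A ≪≫ (Scheme.Modules.pullbackCongr he).app A⟩

theorem cl_pullback_id {X : Scheme.{u}} (A : X.Modules) :
    PicF.cl ((Scheme.Modules.pullback (𝟙 X)).obj A) = PicF.cl A :=
  (PicGrp.cl_eq_cl_iff _ _).2 ⟨(Scheme.Modules.pullbackId X).app A⟩

variable {k : Type u} [Field k] [IsAlgClosed k] {C : Scheme.{u}} [C.Over (Spec (CommRingCat.of k))]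
  [IsProper (C ↘ Spec (CommRingCat.of k))] [Smooth (C ↘ Spec (CommRingCat.of k))] [ConnectedSpace C]

theorem h0_one : h k (Coh.structureModule C) 0 = 1 :=
  haveI := CurveRR.Easy.isIntegral_of_smooth (k := k) (X := C)
  CurveRR.h0_structure k C

section deg

variable (hdim : topologicalKrullDim C = 1)

include hdim in
theorem euler_inv {M : C.Modules} {g : ℕ} (hgen : Curv2.genus k C = g) :
    Curv2.euler k C M = Curv2.deg k C M 1 + 1 - g := by
  have h1 := CurveRR.euler_structure hdim.le (h0_one (k := k) (C := C))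
  rw [hgen] at h1
  rw [Curv2.deg, h1]
  push_cast
  ring

include hdim in
theorem deg_tensor_inv {A B : C.Modules} (hA : PicF.IsInvertible A) (hB : PicF.IsInvertible B) :
    Curv2.deg k C (CohB1.tensorMod A B) 1 = Curv2.deg k C A 1 + Curv2.deg k C B 1 := by
  have := CurveRR.Multi.deg_tensor (k := k) hdim.le 1 1 A B (CurveRR.isFinLocFreeOfRank_one hA)
    (CurveRR.isFinLocFreeOfRank_one hB)
  rw [one_mul] at this
  rw [this]
  push_cast
  ring

theorem deg_congr {A B : C.Modules} (e : PicF.cl A = PicF.cl B) :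
    Curv2.deg k C A 1 = Curv2.deg k C B 1 := by
  rw [Curv2.deg, Curv2.deg, Nakai.euler_congr k e]

theorem deg_one : Curv2.deg k C (Coh.structureModule C) 1 = 0 := by
  rw [Curv2.deg]; push_cast; ring

include hdim in
theorem h0_eq_zero_of_deg_neg {M : C.Modules} (hM : PicF.IsInvertible M)
    (hd : Curv2.deg k C M 1 < 0) : h k M 0 = 0 := by
  haveI := CurveRR.Easy.isIntegral_of_smooth (k := k) (X := C)
  by_contra hne
  obtain ⟨s, hs⟩ := CurveRR.exists_section hne
  exact absurd (CurveRR.Easy.deg_nonneg hdim.le hM s hs) (not_le.2 hd)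

end deg

variable (hdim : topologicalKrullDim C = 1) {g : ℕ} (hgen : Curv2.genus k C = g)
  {κ : C ⟶ CohB1.ProjSpace 1 k} (hκ : κ ≫ CohB1.ProjSpace.toSpec 1 k = C ↘ Spec (CommRingCat.of k))
  [IsFinite κ] [Flat κ] (hκ2 : ∀ y : CohB1.ProjSpace 1 k, κ.finrank y = 2)

/-- The bundle `κ^*O(1)`. -/
abbrev Lb (κ : C ⟶ CohB1.ProjSpace 1 k) : C.Modules :=
  (Scheme.Modules.pullback κ).obj (Twist.twistProjSpace 1 k 1)

theorem isInvertible_Lb : PicF.IsInvertible (Lb κ) := CurveVA.isInvertible_O1 κ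

theorem isInvertible_Lb_pow (m : ℕ) : PicF.IsInvertible (CohB1.tensorPow (Lb κ) m) :=
  TMul.isInvertible_tensorPow isInvertible_Lb m

include hdim hκ hκ2 in
theorem deg_Lb_pow (m : ℕ) : Curv2.deg k C (CohB1.tensorPow (Lb κ) m) 1 = 2 * m := by
  haveI := CurveRR.Easy.isIntegral_of_smooth (k := k) (X := C)
  haveI := Horrocks.isIntegral_projSpace (k := k) (n := 1)
  rw [CurveRR.deg_tensorPow hdim.le isInvertible_Lb,
    show Curv2.deg k C (Lb κ) 1 = _ from (W7Pencil.deg_O1_of_cover κ hdim hκ).2,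
    W7Pencil.residueDegree_of_finrank κ hdim hκ hκ2]
  push_cast
  ring

include hdim hgen hκ hκ2 in
theorem h0_Lb_pow {m : ℕ} (hm : m ≤ g) : h k (CohB1.tensorPow (Lb κ) m) 0 = m + 1 := by
  haveI := CurveRR.Easy.isIntegral_of_smooth (k := k) (X := C)
  haveI := Horrocks.isIntegral_projSpace (k := k) (n := 1)
  have e := (W7Pencil.deg_O1_of_cover κ hdim hκ).1
  have H := W7Pencil.hyper_of_cover κ hdim h0_one hgen hκ e
    (W7Pencil.residueDegree_of_finrank κ hdim hκ hκ2)
  exact ((W7Pencil.pencilOf κ e).finrank_space (k := k) m).symm.trans (H.finrank_space_le hm)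

include hdim hgen hκ hκ2 in
theorem subsingleton_h1_Lb_pow {m : ℕ} (hm : g ≤ m) :
    Subsingleton (Coh.HH C (CohB1.tensorPow (Lb κ) m) 1) := by
  haveI := CurveRR.Easy.isIntegral_of_smooth (k := k) (X := C)
  refine CurveRR.subsingleton_h1 hdim.le (h0_one (k := k)) (isInvertible_Lb_pow m) ?_
  rw [deg_Lb_pow hdim hκ hκ2, hgen]
  omega

include hdim hgen hκ hκ2 in
theorem h1_Lb_pow {m : ℕ} (hm : m ≤ g) : h k (CohB1.tensorPow (Lb κ) m) 1 = g - m := by
  have h1 := euler_inv (k := k) (M := CohB1.tensorPow (Lb κ) m) hdim hgen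
  rw [CurveRR.euler_eq hdim.le, h0_Lb_pow hdim hgen hκ hκ2 hm, deg_Lb_pow hdim hκ hκ2] at h1
  omega

include hdim hgen hκ hκ2 in
theorem nonempty_omega_iso (hg : 1 ≤ g) :
    Nonempty (CohB1.tensorPow (Lb κ) (g - 1) ≅ Omega.sheaf (C ↘ Spec (CommRingCat.of k))) := by
  haveI := CurveRR.Easy.isIntegral_of_smooth (k := k) (X := C)
  refine CurveOmega.nonempty_iso_omega' k C hdim h0_one (isInvertible_Lb_pow _) ?_ ?_
  · rw [deg_Lb_pow hdim hκ hκ2, hgen]
    omega
  · rw [hgen, h0_Lb_pow hdim hgen hκ hκ2 (by omega)]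
    omega

section graph

variable {σ : C ⟶ C} (hσp : σ ≫ (C ↘ Spec (CommRingCat.of k)) = C ↘ Spec (CommRingCat.of k))

/-- The graph of `σ`. -/
abbrev graph : C ⟶ sq k C :=
  pullback.lift (𝟙 C) σ ((Category.id_comp (C ↘ Spec (CommRingCat.of k))).trans hσp.symm)

theorem graph_over : graph hσp ≫ (sq k C ↘ Spec (CommRingCat.of k)) = C ↘ Spec (CommRingCat.of k) := by
  show graph hσp ≫ pullback.fst _ _ ≫ _ = _
  rw [pullback.lift_fst_assoc, Category.id_comp]

instance isClosedImmersion_graph : IsClosedImmersion (graph hσp) :=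
  haveI : IsClosedImmersion (graph hσp ≫ p1 k C) := by rw [pullback.lift_fst]; infer_instance
  IsClosedImmersion.of_comp (graph hσp) (p1 k C)

theorem cl_graph_p1 (A : C.Modules) :
    PicF.cl ((Scheme.Modules.pullback (graph hσp)).obj ((Scheme.Modules.pullback (p1 k C)).obj A)) =
      PicF.cl A :=
  (cl_pullback_comp (graph hσp) (p1 k C) (pullback.lift_fst _ _ _) A).trans (cl_pullback_id A)

theorem cl_graph_p2 (A : C.Modules) :
    PicF.cl ((Scheme.Modules.pullback (graph hσp)).obj ((Scheme.Modules.pullback (p2 k C)).obj A)) =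
      PicF.cl ((Scheme.Modules.pullback σ).obj A) :=
  cl_pullback_comp (graph hσp) (p2 k C) (pullback.lift_snd _ _ _) A

variable (hσ : σ ≫ κ = κ)

include hσ in
theorem cl_sigma_Lb (m : ℕ) :
    PicF.cl ((Scheme.Modules.pullback σ).obj (CohB1.tensorPow (Lb κ) m)) = PicF.cl (Lb κ) ^ m := by
  rw [cl_pullback_pow, cl_pullback_comp σ κ hσ]

variable {N : (sq k C).Modules} (hN : PicF.IsInvertible N)
  (hinv : ClSub.IsInverseOf N (ClSub.idealMod (graph hσp).ker))

include hdim hgen hκ hκ2 hσ hinv in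
/-- the normal bundle of the graph is `L^{-(g-1)}` -/
theorem cl_graph_N (hg : 1 ≤ g) :
    PicF.cl ((Scheme.Modules.pullback (graph hσp)).obj N) * PicF.cl (Lb κ) ^ (g - 1) = 1 := by
  obtain ⟨eω⟩ := nonempty_omega_iso hdim hgen hκ hκ2 hg
  have hsq : IsPullback (p2 k C) (p1 k C) (C ↘ Spec (CommRingCat.of k)) (C ↘ Spec (CommRingCat.of k)) :=
    (IsPullback.of_hasPullback _ _).flip
  obtain ⟨e1⟩ := GrpOmega.nonempty_iso_conormal (p1 k C) (graph hσp) (pullback.lift_fst _ _ _)
    (OmegaLib.isUniversal_dOmega (p1 k C))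
  obtain ⟨e2⟩ := ExtFund.nonempty_omega_pullback hsq
  have h1 : PicF.cl ((Scheme.Modules.pullback (graph hσp)).obj (ClSub.idealMod (graph hσp).ker)) =
      PicF.cl (Lb κ) ^ (g - 1) := by
    rw [← cl_sigma_Lb hσ (g - 1)]
    refine ((PicGrp.cl_eq_cl_iff _ _).2 ⟨e1 ≪≫ (Scheme.Modules.pullback (graph hσp)).mapIso e2.symm⟩).trans ?_
    refine (cl_graph_p2 hσp _).trans ((PicGrp.cl_eq_cl_iff _ _).2 ?_)
    exact ⟨(Scheme.Modules.pullback σ).mapIso eω.symm⟩
  rw [← h1, ← cl_pullback_tensor]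
  obtain ⟨eN⟩ := hinv
  exact (PicGrp.cl_eq_cl_iff _ _).2
    ⟨(Scheme.Modules.pullback (graph hσp)).mapIso eN ≪≫ DerPerf.pullUnitIso (graph hσp)⟩

end graph

end Groth.Agent.CurveSq
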