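import Groth.Agent.CurveSq.Point

/-!
Intersection numbers on the square of a hyperelliptic curve.
-/

set_option autoImplicit false
set_option backward.isDefEq.respectTransparency false
set_option linter.style.haveILetI false
set_option linter.unusedSectionVars false
set_option maxHeartbeats 1000000

universe u

open CategoryTheory CategoryTheory.Limits AlgebraicGeometry TopologicalSpace
open Groth.Agent.CurveRR (h)

noncomputable section

namespace Groth.Agent.CurveSq

attribute [local instance] Nakai.clMonoid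

theorem cl_pullback_one {X Y : Scheme.{u}} (f : X ⟶ Y) :
    PicF.cl ((Scheme.Modules.pullback f).obj (Coh.structureModule Y)) = 1 :=
  (PicGrp.cl_eq_cl_iff _ _).2 ⟨DerPerf.pullUnitIso f⟩

variable {k : Type u} [Field k] [IsAlgClosed k] {C : Scheme.{u}} [C.Over (Spec (CommRingCat.of k))]
  [IsProper (C ↘ Spec (CommRingCat.of k))] [Smooth (C ↘ Spec (CommRingCat.of k))] [ConnectedSpace C]

theorem cl_box_left (A : C.Modules) :
    PicF.cl (box k C A (Coh.structureModule C)) = PicF.cl ((Scheme.Modules.pullback (p1 k C)).obj A) := by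
  rw [Nakai.cl_tensor, cl_pullback_one, mul_one]

theorem cl_box_right (A : C.Modules) :
    PicF.cl (box k C (Coh.structureModule C) A) = PicF.cl ((Scheme.Modules.pullback (p2 k C)).obj A) := by
  rw [Nakai.cl_tensor, cl_pullback_one, one_mul]

theorem cl_box_one :
    PicF.cl (box k C (Coh.structureModule C) (Coh.structureModule C)) = 1 := by
  rw [cl_box_left, cl_pullback_one]

theorem cl_box_mul (A B A' B' : C.Modules) :
    PicF.cl (box k C A B) * PicF.cl (box k C A' B') =
      PicF.cl (box k C (CohB1.tensorMod A A') (CohB1.tensorMod B B')) := by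
  simp only [Nakai.cl_tensor, cl_pullback_tensor, mul_mul_mul_comm]

/-- the data of a module of known class: vanishing above two and Euler characteristic -/
def Known (M : (sq k C).Modules) (χ : ℤ) : Prop :=
  (∀ q, 3 ≤ q → Subsingleton (Coh.HH (sq k C) M q)) ∧ Curv2.euler k (sq k C) M = χ

theorem known_of_cl {M M' : (sq k C).Modules} {χ : ℤ} (e : PicF.cl M = PicF.cl M') (h : Known M' χ) :
    Known M χ := by
  obtain ⟨e⟩ := Nakai.iso_of_cl e
  exact ⟨fun q hq => haveI := h.1 q hq; (CohFinite.hhEquiv k e q).toEquiv.subsingleton,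
    (CurveRR.euler_eq_of_iso e).trans h.2⟩

theorem known_box (hdim : topologicalKrullDim C = 1) {g : ℕ} (hgen : Curv2.genus k C = g)
    {A B : C.Modules} (hA : PicF.IsInvertible A) (hB : PicF.IsInvertible B) :
    Known (box k C A B)
      ((Curv2.deg k C A 1 - ((g : ℤ) - 1)) * (Curv2.deg k C B 1 - ((g : ℤ) - 1))) := by
  refine ⟨fun q hq => subsingleton_box_three hA hB hdim.le q hq, ?_⟩
  rw [euler_box hA hB hdim.le, euler_inv hdim hgen, euler_inv hdim hgen]
  ring

theorem known_one (hdim : topologicalKrullDim C = 1) {g : ℕ} (hgen : Curv2.genus k C = g) :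
    Known (Coh.structureModule (sq k C)) (((g : ℤ) - 1) * ((g : ℤ) - 1)) := by
  have h := known_box (k := k) (C := C) hdim hgen (PicLoc.isInvertible_structureModule C)
    (PicLoc.isInvertible_structureModule C)
  rw [deg_one] at h
  have h' := known_of_cl (M := Coh.structureModule (sq k C)) (by rw [cl_box_one, Nakai.cl_one]) h
  exact ⟨h'.1, h'.2.trans (by ring)⟩

theorem intNum_of_known {M₁ M₂ : (sq k C).Modules} {χ₀ χ₁ χ₂ χ : ℤ}
    (h₀ : Known (Coh.structureModule (sq k C)) χ₀) (h₁ : Known M₁ χ₁) (h₂ : Known M₂ χ₂)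
    (h : Known (CohB1.tensorMod M₁ M₂) χ) :
    FGA.intNum k (sq k C) 2 ![M₁, M₂] (Coh.structureModule (sq k C)) = χ₀ - χ₁ - χ₂ + χ := by
  rw [intNum_two M₁ M₂ h₁.1 h₂.1 h₀.1 h.1, h₀.2, h₁.2, h₂.2, h.2]

variable (hdim : topologicalKrullDim C = 1) {g : ℕ} (hgen : Curv2.genus k C = g) (hg : 1 ≤ g)
  {κ : C ⟶ CohB1.ProjSpace 1 k} (hκ : κ ≫ CohB1.ProjSpace.toSpec 1 k = C ↘ Spec (CommRingCat.of k))
  [IsFinite κ] [Flat κ] (hκ2 : ∀ y : CohB1.ProjSpace 1 k, κ.finrank y = 2)
  {σ : C ⟶ C} (hσp : σ ≫ (C ↘ Spec (CommRingCat.of k)) = C ↘ Spec (CommRingCat.of k)) (hσ : σ ≫ κ = κ)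
  {N : (sq k C).Modules} (hN : PicF.IsInvertible N)
  (hinv : ClSub.IsInverseOf N (ClSub.idealMod (graph hσp).ker))

include hdim hgen hg hκ hκ2 hσ hN hinv in
theorem known_tw {A B : C.Modules} (hA : PicF.IsInvertible A) (hB : PicF.IsInvertible B) (r : ℕ)
    {a b : ℤ} (ha : Curv2.deg k C A 1 = a) (hb : Curv2.deg k C B 1 = b) :
    Known (tw A B N r)
      ((a - ((g : ℤ) - 1)) * (b - ((g : ℤ) - 1)) + (r : ℤ) * (a + b) - ((g : ℤ) - 1) * r * (r + 2)) := by
  refine ⟨fun q hq => subsingleton_tw_ge hdim hσp hN hinv hA hB q (by omega)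
    (subsingleton_box_three hA hB hdim.le q hq) r, ?_⟩
  rw [euler_tw hdim hgen hg hκ hκ2 hσp hσ hN hinv hA hB r, deg_pullback_deck hdim hκ hκ2 hσp hσ hB, ha, hb]

include hdim hgen hg hκ hκ2 hσ hN hinv in
theorem intNum_self :
    FGA.intNum k (sq k C) 2 ![N, N] (Coh.structureModule (sq k C)) = 2 - 2 * (g : ℤ) := by
  have hO := PicLoc.isInvertible_structureModule C
  have h := fun r => known_tw hdim hgen hg hκ hκ2 hσp hσ hN hinv hO hO r deg_one deg_one
  rw [intNum_of_known (known_one hdim hgen) (known_of_cl (M' := tw _ _ N 1) (by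
      rw [Nakai.cl_tensor, cl_box_one, one_mul, Nakai.cl_pow, pow_one]) (h 1))
    (known_of_cl (M' := tw _ _ N 1) (by rw [Nakai.cl_tensor, cl_box_one, one_mul, Nakai.cl_pow, pow_one]) (h 1))
    (known_of_cl (M' := tw _ _ N 2) (by
      rw [Nakai.cl_tensor, Nakai.cl_tensor, cl_box_one, one_mul, Nakai.cl_pow, pow_two]) (h 2))]
  push_cast
  ring

include hdim hgen hg hκ hκ2 hσ hN hinv in
theorem intNum_fst {A : C.Modules} (hA : PicF.IsInvertible A) {a : ℤ} (ha : Curv2.deg k C A 1 = a) :
    FGA.intNum k (sq k C) 2 ![(Scheme.Modules.pullback (p1 k C)).obj A, N]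
      (Coh.structureModule (sq k C)) = a := by
  have hO := PicLoc.isInvertible_structureModule C
  rw [intNum_of_known (known_one hdim hgen)
    (known_of_cl (M' := box k C A (Coh.structureModule C)) (by rw [cl_box_left]) (known_box hdim hgen hA hO))
    (known_of_cl (M' := tw _ _ N 1) (by rw [Nakai.cl_tensor, cl_box_one, one_mul, Nakai.cl_pow, pow_one])
      (known_tw hdim hgen hg hκ hκ2 hσp hσ hN hinv hO hO 1 deg_one deg_one))
    (known_of_cl (M' := tw A (Coh.structureModule C) N 1) (by
      rw [Nakai.cl_tensor, Nakai.cl_tensor, cl_box_left, Nakai.cl_pow, pow_one])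
      (known_tw hdim hgen hg hκ hκ2 hσp hσ hN hinv hA hO 1 ha deg_one)), deg_one, ha]
  push_cast
  ring

include hdim hgen in
theorem intNum_fst_fst {A : C.Modules} (hA : PicF.IsInvertible A) :
    FGA.intNum k (sq k C) 2 ![(Scheme.Modules.pullback (p1 k C)).obj A,
      (Scheme.Modules.pullback (p1 k C)).obj A] (Coh.structureModule (sq k C)) = 0 := by
  haveI := CurveRR.Easy.isIntegral_of_smooth (k := k) (X := C)
  have hO := PicLoc.isInvertible_structureModule C
  have h1 := known_of_cl (M := (Scheme.Modules.pullback (p1 k C)).obj A)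
    (M' := box k C A (Coh.structureModule C)) (by rw [cl_box_left]) (known_box hdim hgen hA hO)
  rw [intNum_of_known (known_one hdim hgen) h1 h1
    (known_of_cl (M' := box k C (CohB1.tensorMod A A) (Coh.structureModule C)) (by
      rw [cl_box_left, cl_pullback_tensor, Nakai.cl_tensor])
      (known_box hdim hgen (TMul.isInvertible_tensorMod hA hA) hO)), deg_one,
    deg_tensor_inv hdim hA hA]
  ring

include hdim hgen in
theorem intNum_fst_snd {A B : C.Modules} (hA : PicF.IsInvertible A) (hB : PicF.IsInvertible B) :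
    FGA.intNum k (sq k C) 2 ![(Scheme.Modules.pullback (p1 k C)).obj A,
      (Scheme.Modules.pullback (p2 k C)).obj B] (Coh.structureModule (sq k C)) =
      Curv2.deg k C A 1 * Curv2.deg k C B 1 := by
  have hO := PicLoc.isInvertible_structureModule C
  rw [intNum_of_known (known_one hdim hgen)
    (known_of_cl (M' := box k C A (Coh.structureModule C)) (by rw [cl_box_left]) (known_box hdim hgen hA hO))
    (known_of_cl (M' := box k C (Coh.structureModule C) B) (by rw [cl_box_right]) (known_box hdim hgen hO hB))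
    (known_of_cl (M' := box k C A B) rfl (known_box hdim hgen hA hB)), deg_one]
  ring

end Groth.Agent.CurveSq
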