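import Groth.Agent.CurveSq.Hyper
import Groth.Agent.DualGeneric.SubE

/-!
Cohomology of `p_1^*A ⊗ p_2^*B ⊗ O(rΓ)` on the square of a hyperelliptic curve, `Γ` a graph.
-/

set_option autoImplicit false
set_option backward.isDefEq.respectTransparency false
set_option linter.style.haveILetI false
set_option linter.unusedSectionVars false
set_option maxHeartbeats 1000000

universe u

open CategoryTheory CategoryTheory.Limits AlgebraicGeometry TopologicalSpace
open Groth.Agent.CurveRR (h)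

noncomputable section

namespace Groth.Agent.CurveSq

attribute [local instance] Nakai.clMonoid

theorem isInvertible_tensorPow' {X : Scheme.{u}} {M : X.Modules} (hM : PicF.IsInvertible M) (r : ℕ) :
    PicF.IsInvertible (CohB1.tensorPow M r) := TMul.isInvertible_tensorPow hM r

variable {k : Type u} [Field k] [IsAlgClosed k] {C : Scheme.{u}} [C.Over (Spec (CommRingCat.of k))]
  [IsProper (C ↘ Spec (CommRingCat.of k))] [Smooth (C ↘ Spec (CommRingCat.of k))] [ConnectedSpace C]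

/-- `p_1^*A ⊗ p_2^*B ⊗ N^r`. -/
abbrev tw (A B : C.Modules) (N : (sq k C).Modules) (r : ℕ) : (sq k C).Modules :=
  CohB1.tensorMod (box k C A B) (CohB1.tensorPow N r)

/-- `F_m ⊗ N^r`. -/
abbrev FF (κ : C ⟶ CohB1.ProjSpace 1 k) (N : (sq k C).Modules) (m r : ℕ) : (sq k C).Modules :=
  tw (CohB1.tensorPow (Lb κ) m) (CohB1.tensorPow (Lb κ) m) N r

variable (hdim : topologicalKrullDim C = 1) {g : ℕ} (hgen : Curv2.genus k C = g) (hg : 1 ≤ g)
  {κ : C ⟶ CohB1.ProjSpace 1 k} (hκ : κ ≫ CohB1.ProjSpace.toSpec 1 k = C ↘ Spec (CommRingCat.of k))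
  [IsFinite κ] [Flat κ] (hκ2 : ∀ y : CohB1.ProjSpace 1 k, κ.finrank y = 2)
  {σ : C ⟶ C} (hσp : σ ≫ (C ↘ Spec (CommRingCat.of k)) = C ↘ Spec (CommRingCat.of k)) (hσ : σ ≫ κ = κ)
  {N : (sq k C).Modules} (hN : PicF.IsInvertible N)
  (hinv : ClSub.IsInverseOf N (ClSub.idealMod (graph hσp).ker))
  {A B : C.Modules} (hA : PicF.IsInvertible A) (hB : PicF.IsInvertible B)

include hN hA hB in
theorem isInvertible_tw (r : ℕ) : PicF.IsInvertible (tw A B N r) :=
  TMul.isInvertible_tensorMod (isInvertible_box hA hB) (isInvertible_tensorPow' hN r)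

theorem cl_tw_succ (A B : C.Modules) (N : (sq k C).Modules) (r : ℕ) :
    PicF.cl (CohB1.tensorMod (tw A B N r) N) = PicF.cl (tw A B N (r + 1)) := by
  simp only [Nakai.cl_tensor, Nakai.cl_pow, pow_succ, mul_assoc]

theorem cl_tw_zero (A B : C.Modules) (N : (sq k C).Modules) :
    PicF.cl (tw A B N 0) = PicF.cl (box k C A B) := by
  simp only [Nakai.cl_tensor, Nakai.cl_pow, pow_zero, mul_one]

theorem cl_restrict (A B : C.Modules) (N : (sq k C).Modules) (r : ℕ) :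
    PicF.cl ((Scheme.Modules.pullback (graph hσp)).obj (tw A B N r)) =
      PicF.cl A * PicF.cl ((Scheme.Modules.pullback σ).obj B) *
        PicF.cl ((Scheme.Modules.pullback (graph hσp)).obj N) ^ r := by
  rw [cl_pullback_tensor, cl_pullback_tensor, cl_graph_p1, cl_graph_p2, cl_pullback_pow]

include hσ in
theorem cl_restrict_FF (m r : ℕ) :
    PicF.cl ((Scheme.Modules.pullback (graph hσp)).obj (FF κ N m r)) =
      PicF.cl (Lb κ) ^ (2 * m) * PicF.cl ((Scheme.Modules.pullback (graph hσp)).obj N) ^ r := by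
  rw [cl_restrict, cl_sigma_Lb hσ, Nakai.cl_pow, two_mul, pow_add]

include hN in
theorem isInvertible_graph_N : PicF.IsInvertible ((Scheme.Modules.pullback (graph hσp)).obj N) :=
  BlowPn.isInvertible_pullback (graph hσp) hN

include hdim hgen hκ hκ2 hσ hinv hg in
theorem cl_restrict_FF_mul (m r : ℕ) :
    PicF.cl ((Scheme.Modules.pullback (graph hσp)).obj (FF κ N m r)) * PicF.cl (Lb κ) ^ ((g - 1) * r) =
      PicF.cl (Lb κ) ^ (2 * m) := by
  rw [cl_restrict_FF hσp hσ, mul_assoc, pow_mul (PicF.cl (Lb κ)) (g - 1) r, ← mul_pow,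
    cl_graph_N hdim hgen hκ hκ2 hσp hσ hinv hg, one_pow, mul_one]

include hdim hgen hκ hκ2 hσ hinv hg in
/-- the restriction of `F_m ⊗ N^r` to the graph is `L^s` -/
theorem cl_restrict_FF_eq (m r s : ℕ) (hs : s + (g - 1) * r = 2 * m) :
    PicF.cl ((Scheme.Modules.pullback (graph hσp)).obj (FF κ N m r)) = PicF.cl (CohB1.tensorPow (Lb κ) s) := by
  rw [cl_restrict_FF hσp hσ, ← hs, pow_add, mul_assoc, pow_mul (PicF.cl (Lb κ)) (g - 1) r, ← mul_pow,
    mul_comm (PicF.cl (Lb κ) ^ (g - 1)), cl_graph_N hdim hgen hκ hκ2 hσp hσ hinv hg, one_pow,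
    mul_one, Nakai.cl_pow]

include hdim hgen hκ hκ2 hσ hinv hg hN in
theorem deg_graph_N :
    Curv2.deg k C ((Scheme.Modules.pullback (graph hσp)).obj N) 1 = -2 * ((g : ℤ) - 1) := by
  have h1 := deg_congr (k := k)
    (A := CohB1.tensorMod ((Scheme.Modules.pullback (graph hσp)).obj N) (CohB1.tensorPow (Lb κ) (g - 1)))
    (B := Coh.structureModule C) (by
      rw [Nakai.cl_tensor, Nakai.cl_pow, cl_graph_N hdim hgen hκ hκ2 hσp hσ hinv hg, Nakai.cl_one])
  rw [deg_tensor_inv hdim (isInvertible_graph_N hσp hN) (isInvertible_Lb_pow _),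
    deg_Lb_pow hdim hκ hκ2, deg_one] at h1
  omega

include hdim hgen hκ hκ2 hσ hinv hg hN hA hB in
theorem deg_restrict (r : ℕ) :
    Curv2.deg k C ((Scheme.Modules.pullback (graph hσp)).obj (tw A B N r)) 1 =
      Curv2.deg k C A 1 + Curv2.deg k C ((Scheme.Modules.pullback σ).obj B) 1 -
        2 * ((g : ℤ) - 1) * r := by
  haveI := CurveRR.Easy.isIntegral_of_smooth (k := k) (X := C)
  have hσB := BlowPn.isInvertible_pullback σ hB
  have hGN := isInvertible_graph_N hσp hN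
  rw [deg_congr (k := k) (B := CohB1.tensorMod (CohB1.tensorMod A ((Scheme.Modules.pullback σ).obj B))
      (CohB1.tensorPow ((Scheme.Modules.pullback (graph hσp)).obj N) r))
      (by rw [cl_restrict hσp, Nakai.cl_tensor, Nakai.cl_tensor, Nakai.cl_pow]),
    deg_tensor_inv hdim (TMul.isInvertible_tensorMod hA hσB) (isInvertible_tensorPow' hGN r),
    deg_tensor_inv hdim hA hσB, CurveRR.deg_tensorPow hdim.le hGN,
    deg_graph_N hdim hgen hg hκ hκ2 hσp hσ hN hinv]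
  ring

include hdim hgen hκ hκ2 hσ hinv hg hN hA hB in
theorem euler_tw (r : ℕ) :
    Curv2.euler k (sq k C) (tw A B N r) =
      (Curv2.deg k C A 1 - ((g : ℤ) - 1)) * (Curv2.deg k C B 1 - ((g : ℤ) - 1)) +
        (r : ℤ) * (Curv2.deg k C A 1 + Curv2.deg k C ((Scheme.Modules.pullback σ).obj B) 1) -
        ((g : ℤ) - 1) * r * (r + 2) := by
  induction r with
  | zero =>
    rw [Nakai.euler_congr k (cl_tw_zero A B N), euler_box hA hB hdim.le, euler_inv hdim hgen,
      euler_inv hdim hgen]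
    push_cast
    ring
  | succ r ih =>
    rw [← Nakai.euler_congr k (cl_tw_succ A B N r),
      euler_twist (graph hσp) (graph_over hσp) hN hinv (isInvertible_tw hN hA hB r), ih,
      euler_inv hdim hgen]
    obtain ⟨e⟩ := Nakai.iso_of_cl (cl_tw_succ A B N r)
    rw [deg_congr (k := k) ((PicGrp.cl_eq_cl_iff _ _).2 ⟨(Scheme.Modules.pullback (graph hσp)).mapIso e⟩),
      deg_restrict hdim hgen hg hκ hκ2 hσp hσ hN hinv hA hB]
    push_cast
    ring

include hdim hN hinv hA hB in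
theorem subsingleton_tw_ge (q : ℕ) (hq : 2 ≤ q) (h0 : Subsingleton (Coh.HH (sq k C) (box k C A B) q))
    (r : ℕ) : Subsingleton (Coh.HH (sq k C) (tw A B N r) q) := by
  induction r with
  | zero =>
    obtain ⟨e⟩ := Nakai.iso_of_cl (cl_tw_zero A B N)
    exact (CohFinite.hhEquiv k e q).toEquiv.subsingleton
  | succ r ih =>
    obtain ⟨e⟩ := Nakai.iso_of_cl (cl_tw_succ A B N r)
    haveI := subsingleton_twist (graph hσp) (graph_over hσp) hN hinv (isInvertible_tw hN hA hB r) q ih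
      (CurveRR.subsingleton_of_two_le (k := k) hdim.le _ q hq)
    exact (CohFinite.hhEquiv k e q).symm.toEquiv.subsingleton

include hdim hgen hκ hκ2 in
theorem subsingleton_box_FF {m : ℕ} (hm : g ≤ m) (q : ℕ) (hq : 0 < q) :
    Subsingleton (Coh.HH (sq k C) (box k C (CohB1.tensorPow (Lb κ) m) (CohB1.tensorPow (Lb κ) m)) q) :=
  subsingleton_box (isInvertible_Lb_pow m) (isInvertible_Lb_pow m) hdim.le
    (subsingleton_h1_Lb_pow hdim hgen hκ hκ2 hm) (subsingleton_h1_Lb_pow hdim hgen hκ hκ2 hm) q hq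

include hdim hgen hκ hκ2 hN hinv in
theorem subsingleton_FF_ge {m : ℕ} (hm : g ≤ m) (r q : ℕ) (hq : 2 ≤ q) :
    Subsingleton (Coh.HH (sq k C) (FF κ N m r) q) :=
  subsingleton_tw_ge hdim hσp hN hinv (isInvertible_Lb_pow m) (isInvertible_Lb_pow m) q hq
    (subsingleton_box_FF hdim hgen hκ hκ2 hm q (by omega)) r

include hdim hgen hκ hκ2 hσ hN hinv hg in
theorem subsingleton_restrict_FF {m r : ℕ} (hr : (g - 1) * r + g ≤ 2 * m) :
    Subsingleton (Coh.HH C ((Scheme.Modules.pullback (graph hσp)).obj (FF κ N m r)) 1) := by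
  obtain ⟨s, hs⟩ : ∃ s, s + (g - 1) * r = 2 * m := ⟨2 * m - (g - 1) * r, by omega⟩
  obtain ⟨e⟩ := Nakai.iso_of_cl (cl_restrict_FF_eq hdim hgen hg hκ hκ2 hσp hσ hinv m r s hs)
  haveI := subsingleton_h1_Lb_pow (m := s) hdim hgen hκ hκ2 (by omega)
  exact (CohFinite.hhEquiv k e 1).toEquiv.subsingleton

include hdim hgen hκ hκ2 hσ hN hinv hg in
theorem subsingleton_FF_one {m : ℕ} (hm : g ≤ m) (r : ℕ) (hr : (g - 1) * r + g ≤ 2 * m) :
    Subsingleton (Coh.HH (sq k C) (FF κ N m r) 1) := by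
  induction r with
  | zero =>
    obtain ⟨e⟩ := Nakai.iso_of_cl (cl_tw_zero (CohB1.tensorPow (Lb κ) m) (CohB1.tensorPow (Lb κ) m) N)
    haveI := subsingleton_box_FF hdim hgen hκ hκ2 hm 1 one_pos
    exact (CohFinite.hhEquiv k e 1).toEquiv.subsingleton
  | succ r ih =>
    have hle : (g - 1) * r ≤ (g - 1) * (r + 1) := Nat.mul_le_mul_left _ (Nat.le_succ r)
    obtain ⟨e⟩ := Nakai.iso_of_cl (cl_tw_succ (CohB1.tensorPow (Lb κ) m) (CohB1.tensorPow (Lb κ) m) N r)
    haveI := subsingleton_restrict_FF hdim hgen hg hκ hκ2 hσp hσ hN hinv hr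
    haveI := subsingleton_twist (graph hσp) (graph_over hσp) hN hinv
      (isInvertible_tw hN (isInvertible_Lb_pow m) (isInvertible_Lb_pow m) r) 1 (ih (by omega))
      (CohFinite.hhEquiv k ((Scheme.Modules.pullback (graph hσp)).mapIso e) 1).toEquiv.subsingleton
    exact (CohFinite.hhEquiv k e 1).symm.toEquiv.subsingleton

include hdim hgen hκ hκ2 hσ hN hinv hg in
theorem h0_FF_of_h1 {m : ℕ} (hm : g ≤ m) (r : ℕ) :
    (h k (FF κ N m r) 0 : ℤ) =
      (2 * (m : ℤ) - ((g : ℤ) - 1)) ^ 2 + 4 * (m : ℤ) * r - ((g : ℤ) - 1) * r * (r + 2) +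
        h k (FF κ N m r) 1 := by
  have h1 := euler_tw hdim hgen hg hκ hκ2 hσp hσ hN hinv (isInvertible_Lb_pow (κ := κ) m) (isInvertible_Lb_pow (κ := κ) m) r
  rw [CurveRR.euler_eq_sum _ 2 (fun q hq => subsingleton_FF_ge hdim hgen hκ hκ2 hσp hN hinv hm r q hq),
    deg_congr (k := k) (A := (Scheme.Modules.pullback σ).obj (CohB1.tensorPow (Lb κ) m))
      (B := CohB1.tensorPow (Lb κ) m) (by rw [cl_sigma_Lb hσ, Nakai.cl_pow]),
    deg_Lb_pow hdim hκ hκ2] at h1
  simp only [Finset.sum_range_succ, Finset.sum_range_zero] at h1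
  linear_combination h1

include hdim hgen hκ hκ2 hσ hN hinv hg in
theorem h1_FF {m r s : ℕ} (hm : g ≤ m) (hs : s + (g - 1) * r = 2 * m) (hs0 : 0 < s) (hs' : s ≤ g - 1) :
    h k (FF κ N m r) 1 = g - s := by
  obtain _ | r := r
  · omega
  have hle : (g - 1) * (r + 1) = (g - 1) * r + (g - 1) := Nat.mul_succ _ _
  obtain ⟨e⟩ := Nakai.iso_of_cl (cl_tw_succ (CohB1.tensorPow (Lb κ) m) (CohB1.tensorPow (Lb κ) m) N r)
  rw [← CurveRR.h_eq_of_iso e 1, h1_twist (graph hσp) (graph_over hσp) hN hinv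
    (isInvertible_tw hN (isInvertible_Lb_pow m) (isInvertible_Lb_pow m) r)
    (subsingleton_FF_one hdim hgen hg hκ hκ2 hσp hσ hN hinv hm r (by omega))
    (subsingleton_FF_ge hdim hgen hκ hκ2 hσp hN hinv hm r 2 le_rfl),
    CurveRR.h_eq_of_iso ((Scheme.Modules.pullback (graph hσp)).mapIso e) 1,
    Nakai.h_congr k (cl_restrict_FF_eq hdim hgen hg hκ hκ2 hσp hσ hinv m (r + 1) s hs),
    h1_Lb_pow hdim hgen hκ hκ2 (by omega)]

include hdim hgen hκ hκ2 hσ hN hinv hg in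
theorem h0_FF_succ_of_neg {m r : ℕ} (hr : 2 * m < (g - 1) * (r + 1)) :
    h k (FF κ N m (r + 1)) 0 = h k (FF κ N m r) 0 := by
  have hI := isInvertible_tw (A := CohB1.tensorPow (Lb κ) m) (B := CohB1.tensorPow (Lb κ) m) hN
    (isInvertible_Lb_pow m) (isInvertible_Lb_pow m)
  obtain ⟨e⟩ := Nakai.iso_of_cl (cl_tw_succ (CohB1.tensorPow (Lb κ) m) (CohB1.tensorPow (Lb κ) m) N r)
  rw [← CurveRR.h_eq_of_iso e 0, h0_twist_of_zero (graph hσp) (graph_over hσp) hN hinv (hI r)]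
  rw [CurveRR.h_eq_of_iso ((Scheme.Modules.pullback (graph hσp)).mapIso e) 0]
  refine h0_eq_zero_of_deg_neg hdim (BlowPn.isInvertible_pullback _ (hI (r + 1))) ?_
  rw [deg_restrict hdim hgen hg hκ hκ2 hσp hσ hN hinv (isInvertible_Lb_pow m) (isInvertible_Lb_pow m),
    deg_congr (k := k) (A := (Scheme.Modules.pullback σ).obj (CohB1.tensorPow (Lb κ) m))
      (B := CohB1.tensorPow (Lb κ) m) (by rw [cl_sigma_Lb hσ, Nakai.cl_pow]),
    deg_Lb_pow hdim hκ hκ2]
  have h1 : (2 * m : ℤ) < ((g - 1 : ℕ) : ℤ) * ((r : ℤ) + 1) := by exact_mod_cast hr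
  rw [Nat.cast_sub hg] at h1
  push_cast at h1 ⊢
  nlinarith

include hdim hgen hκ hκ2 hσ hN hinv hg in
theorem h0_FF_succ_of_pos {m r s : ℕ} (hm : g ≤ m) (hs : s + (g - 1) * (r + 1) = 2 * m) (hs0 : 0 < s) :
    h k (FF κ N m (r + 1)) 0 = h k (FF κ N m r) 0 + h k (CohB1.tensorPow (Lb κ) s) 0 := by
  have hle : (g - 1) * (r + 1) = (g - 1) * r + (g - 1) := Nat.mul_succ _ _
  obtain ⟨e⟩ := Nakai.iso_of_cl (cl_tw_succ (CohB1.tensorPow (Lb κ) m) (CohB1.tensorPow (Lb κ) m) N r)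
  rw [← CurveRR.h_eq_of_iso e 0, h0_twist_of_h1 (graph hσp) (graph_over hσp) hN hinv
    (isInvertible_tw hN (isInvertible_Lb_pow m) (isInvertible_Lb_pow m) r)
    (subsingleton_FF_one hdim hgen hg hκ hκ2 hσp hσ hN hinv hm r (by omega)),
    CurveRR.h_eq_of_iso ((Scheme.Modules.pullback (graph hσp)).mapIso e) 0,
    Nakai.h_congr k (cl_restrict_FF_eq hdim hgen hg hκ hκ2 hσp hσ hinv m (r + 1) s hs)]

end Groth.Agent.CurveSq
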