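import Groth.Agent.CurveSq.Main
import Groth.Agent.HodgeCI.CIFacts
import Groth.Agent.CycK0.EulerPt
import Groth.Agent.PlaneBlow.BlowRank
import Groth.Agent.DualGeneric.PointTwist

/-!
Degree one bundles of points, degree preservation under deck transformations, and
intersection numbers of two modules on the square.
-/

set_option autoImplicit false
set_option backward.isDefEq.respectTransparency false
set_option linter.style.haveILetI false
set_option linter.unusedSectionVars false
set_option maxHeartbeats 1000000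

universe u

open CategoryTheory CategoryTheory.Limits AlgebraicGeometry TopologicalSpace
open Groth.Agent.CurveRR (h)

noncomputable section

namespace Groth.Agent.CurveSq

attribute [local instance] Nakai.clMonoid

variable {k : Type u} [Field k]

/-- `χ` of an invertible module on `Spec k` is one. -/
theorem euler_spec_field [(Spec (CommRingCat.of k)).Over (Spec (CommRingCat.of k))]
    (hid : (Spec (CommRingCat.of k)) ↘ Spec (CommRingCat.of k) = 𝟙 _)
    {M : (Spec (CommRingCat.of k)).Modules} (hM : PicF.IsInvertible M) :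
    Curv2.euler k (Spec (CommRingCat.of k)) M = 1 := by
  haveI : IsProper ((Spec (CommRingCat.of k)) ↘ Spec (CommRingCat.of k)) := by rw [hid]; infer_instance
  haveI : IsReduced (Spec (CommRingCat.of k)) := inferInstance
  haveI : Subsingleton (Spec (CommRingCat.of k)) := inferInstanceAs (Subsingleton (PrimeSpectrum k))
  haveI : Nonempty (Spec (CommRingCat.of k)) := inferInstanceAs (Nonempty (PrimeSpectrum k))
  obtain ⟨e⟩ := PlaneBlow.nonempty_iso_structure_of_subsingleton hM
  rw [CurveRR.euler_eq_of_iso e]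
  have hd : topologicalKrullDim (Set.univ : Set (Spec (CommRingCat.of k))) ≤ 0 :=
    Intersect.dim_le_zero_of_closedPoints isClosed_univ fun y _ => by
      rw [show ({y} : Set (Spec (CommRingCat.of k))) = Set.univ from
        Set.eq_univ_of_forall fun z => Subsingleton.elim z y]
      exact isClosed_univ
  rw [CurveRR.euler_eq_h0 fun i hi =>
    SuppZero.subsingleton_hh_of_supported isClosed_univ hd _ (fun x hx => absurd trivial hx) i hi]
  have hb : Function.Bijective ((Spec (CommRingCat.of k)) ↘ Spec (CommRingCat.of k)).appTop := by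
    rw [hid]
    exact ⟨fun a b hab => by simpa using hab, fun a => ⟨a, by simp⟩⟩
  rw [show h k (Coh.structureModule (Spec (CommRingCat.of k))) 0 = 1 from
    HodgeCI.finrank_h0_structure hb]
  rfl

variable [IsAlgClosed k] {C : Scheme.{u}} [C.Over (Spec (CommRingCat.of k))]
  [IsProper (C ↘ Spec (CommRingCat.of k))] [Smooth (C ↘ Spec (CommRingCat.of k))] [ConnectedSpace C]

theorem deg_point {x : Spec (CommRingCat.of k) ⟶ C} (hx : x ≫ (C ↘ Spec (CommRingCat.of k)) = 𝟙 _)
    {A : C.Modules} (hA : PicF.IsInvertible A) (hinv : ClSub.IsInverseOf A (ClSub.idealMod x.ker)) :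
    Curv2.deg k C A 1 = 1 := by
  letI : (Spec (CommRingCat.of k)).Over (Spec (CommRingCat.of k)) := ⟨𝟙 _⟩
  haveI : IsClosedImmersion x := by
    haveI : IsClosedImmersion (x ≫ (C ↘ Spec (CommRingCat.of k))) := by rw [hx]; infer_instance
    exact IsClosedImmersion.of_comp x (C ↘ Spec (CommRingCat.of k))
  have h1 := euler_twist x hx hA hinv (M := Coh.structureModule C) (PicLoc.isInvertible_structureModule C)
  rw [euler_spec_field rfl (BlowPn.isInvertible_pullback x
      (TMul.isInvertible_tensorMod (PicLoc.isInvertible_structureModule C) hA)),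
    CurveRR.euler_eq_of_iso (TMul.leftUnitIso A)] at h1
  rw [Curv2.deg, h1]
  push_cast
  ring

theorem deg_pullback_deck (hdim : topologicalKrullDim C = 1)
    {κ : C ⟶ CohB1.ProjSpace 1 k} (hκ : κ ≫ CohB1.ProjSpace.toSpec 1 k = C ↘ Spec (CommRingCat.of k))
    [IsFinite κ] [Flat κ] (hκ2 : ∀ y : CohB1.ProjSpace 1 k, κ.finrank y = 2)
    {σ : C ⟶ C} (hσp : σ ≫ (C ↘ Spec (CommRingCat.of k)) = C ↘ Spec (CommRingCat.of k)) (hσ : σ ≫ κ = κ)
    {A : C.Modules} (hA : PicF.IsInvertible A) :
    Curv2.deg k C ((Scheme.Modules.pullback σ).obj A) 1 = Curv2.deg k C A 1 := by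
  haveI := CurveRR.Easy.isIntegral_of_smooth (k := k) (X := C)
  haveI := Horrocks.isIntegral_projSpace (k := k) (n := 1)
  have e := (W7Pencil.deg_O1_of_cover κ hdim hκ).1
  have hξ := W7Pencil.map_genericPoint_of_comp κ hdim e σ hσ
  have hfib : ∀ y : C, IsClosed ({y} : Set C) → genericPoint C ∉ σ ⁻¹' {y} := fun y hy hmem => by
    have hy' : σ (genericPoint C) = y := hmem
    rw [hξ] at hy'
    subst hy'
    have h1 : ({genericPoint C} : Set C) = Set.univ :=
      Set.eq_univ_of_forall fun z => (genericPoint_specializes z).mem_closed hy rfl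
    haveI : Subsingleton C := ⟨fun a b =>
      (show a ∈ ({genericPoint C} : Set C) by rw [h1]; trivial).trans
        (show b ∈ ({genericPoint C} : Set C) by rw [h1]; trivial).symm⟩
    have h2 := topologicalKrullDim_zero_of_discreteTopology C
    rw [hdim] at h2
    exact absurd h2 (by norm_num)
  have hgen : ∀ x', σ x' = σ (genericPoint C) → x' = genericPoint C := fun x' hx' => by
    by_contra hne
    have hx := CurveVA.isClosed_singleton_of_ne_generic (k := k) hdim hne
    have hκx := κ.isClosedMap _ hx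
    rw [Set.image_singleton] at hκx
    have h3 : κ x' = κ (genericPoint C) := by
      rw [← hσ]
      show κ (σ x') = κ (σ (genericPoint C))
      rw [hx']
    rw [h3, e] at hκx
    have h4 : ∀ z : C, κ z = genericPoint (CohB1.ProjSpace 1 k) := fun z =>
      ((genericPoint_specializes (κ z)).mem_closed hκx rfl)
    have h5 := κ.isDiscrete_preimage_singleton (genericPoint (CohB1.ProjSpace 1 k))
    rw [show κ ⁻¹' {genericPoint (CohB1.ProjSpace 1 k)} = Set.univ from Set.eq_univ_of_forall h4] at h5
    haveI : DiscreteTopology C := isDiscrete_univ_iff.mp h5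
    have h6 := topologicalKrullDim_zero_of_discreteTopology C
    rw [hdim] at h6
    exact absurd h6 (by norm_num)
  have hd := fun E (hE : PicF.IsInvertible E) => DualGeneric.deg_pullback k hdim.le hdim.le σ hσp hξ hfib hgen
    (E := E) (CurveRR.isFinLocFreeOfRank_one hE)
  have hL := hd _ (isInvertible_Lb_pow (κ := κ) 1)
  rw [deg_congr (k := k) (B := CohB1.tensorPow (Lb κ) 1) (by rw [cl_sigma_Lb hσ, Nakai.cl_pow]),
    deg_Lb_pow hdim hκ hκ2] at hL
  rw [hd A hA, show (σ.residueDegree (genericPoint C) : ℤ) = 1 by push_cast at hL; linarith, one_mul]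

omit [IsAlgClosed k] [Smooth (C ↘ Spec (CommRingCat.of k))] [ConnectedSpace C] in
theorem eulerCharLE_eq_euler (F : (sq k C).Modules)
    (hv : ∀ q, 3 ≤ q → Subsingleton (Coh.HH (sq k C) F q)) :
    FGA.eulerCharLE k (sq k C) F 2 = Curv2.euler k (sq k C) F :=
  (CurveRR.euler_eq_sum F 3 hv).symm

omit [IsAlgClosed k] [Smooth (C ↘ Spec (CommRingCat.of k))] [ConnectedSpace C] in
theorem intNum_two (M₁ M₂ : (sq k C).Modules)
    (hv₁ : ∀ q, 3 ≤ q → Subsingleton (Coh.HH (sq k C) M₁ q))
    (hv₂ : ∀ q, 3 ≤ q → Subsingleton (Coh.HH (sq k C) M₂ q))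
    (hv₀ : ∀ q, 3 ≤ q → Subsingleton (Coh.HH (sq k C) (Coh.structureModule (sq k C)) q))
    (hv : ∀ q, 3 ≤ q → Subsingleton (Coh.HH (sq k C) (CohB1.tensorMod M₁ M₂) q)) :
    FGA.intNum k (sq k C) 2 ![M₁, M₂] (Coh.structureModule (sq k C)) =
      Curv2.euler k (sq k C) (Coh.structureModule (sq k C)) - Curv2.euler k (sq k C) M₁ -
        Curv2.euler k (sq k C) M₂ + Curv2.euler k (sq k C) (CohB1.tensorMod M₁ M₂) := by
  have hu : (Finset.univ : Finset (Finset (Fin 2))) = {∅, {0}, {1}, {0, 1}} := by decide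
  have hc : ∀ {F G : (sq k C).Modules}, PicF.cl F = PicF.cl G →
      (∀ q, 3 ≤ q → Subsingleton (Coh.HH (sq k C) G q)) →
      FGA.eulerCharLE k (sq k C) F 2 = Curv2.euler k (sq k C) G := by
    intro F G hFG hG
    obtain ⟨e⟩ := Nakai.iso_of_cl hFG
    rw [← eulerCharLE_eq_euler G hG]
    exact Finset.sum_congr rfl fun i _ => by rw [(CohFinite.hhEquiv k e i).finrank_eq]
  have h01 : ({0, 1} : Finset (Fin 2)).sort (· ≤ ·) = [0, 1] := by
    rw [Finset.sort_insert (r := (· ≤ ·)) (by simp) (by simp), Finset.sort_singleton]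
  rw [FGA.intNum, hu, Finset.sum_insert (by decide), Finset.sum_insert (by decide),
    Finset.sum_insert (by decide), Finset.sum_singleton, h01, Finset.sort_empty, Finset.sort_singleton,
    Finset.sort_singleton]
  rw [hc (G := Coh.structureModule (sq k C)) ?_ hv₀, hc (G := M₁) ?_ hv₁, hc (G := M₂) ?_ hv₂,
    hc (G := CohB1.tensorMod M₁ M₂) ?_ hv]
  · simp
    ring
  all_goals simp [FGA.tensorList, Nakai.cl_tensor, Nakai.cl_one]

end Groth.Agent.CurveSq
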