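import Groth.Agent.KunnethHH.Main
import Groth.Agent.Nakai.AlgEquiv
import Groth.Agent.CurveRR.Euler
import Groth.Agent.CurveRR.Curve
import Groth.Agent.FrobSplit.Finrank
import Groth.Agent.TMul.Pullback
import Groth.Agent.BlowPn.Push

/-!
Cohomology of external products of invertible modules on the square of a curve.
-/

set_option autoImplicit false
set_option backward.isDefEq.respectTransparency false
set_option linter.style.haveILetI false
set_option linter.unusedSectionVars false

universe u

open CategoryTheory CategoryTheory.Limits AlgebraicGeometry TopologicalSpace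
open Groth.Agent.CurveRR (h)
open scoped TensorProduct

noncomputable section

namespace Groth.Agent.CurveSq

variable (k : Type u) [Field k] (C : Scheme.{u}) [C.Over (Spec (CommRingCat.of k))]

/-- The square of `C` over `k`. -/
abbrev sq : Scheme.{u} := pullback (C ↘ Spec (CommRingCat.of k)) (C ↘ Spec (CommRingCat.of k))

instance overSq : (sq k C).Over (Spec (CommRingCat.of k)) :=
  ⟨pullback.fst (C ↘ Spec (CommRingCat.of k)) (C ↘ Spec (CommRingCat.of k)) ≫ (C ↘ Spec (CommRingCat.of k))⟩

/-- The first projection. -/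
abbrev p1 : sq k C ⟶ C := pullback.fst _ _

/-- The second projection. -/
abbrev p2 : sq k C ⟶ C := pullback.snd _ _

variable [IsProper (C ↘ Spec (CommRingCat.of k))]

instance isProperSq : IsProper (sq k C ↘ Spec (CommRingCat.of k)) :=
  inferInstanceAs (IsProper (pullback.fst (C ↘ Spec (CommRingCat.of k)) (C ↘ Spec (CommRingCat.of k)) ≫
    (C ↘ Spec (CommRingCat.of k))))

/-- External tensor product. -/
abbrev box (A B : C.Modules) : (sq k C).Modules :=
  CohB1.tensorMod ((Scheme.Modules.pullback (p1 k C)).obj A) ((Scheme.Modules.pullback (p2 k C)).obj B)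

variable {k C} {A B : C.Modules} (hA : PicF.IsInvertible A) (hB : PicF.IsInvertible B)

include hA hB

theorem isInvertible_box : PicF.IsInvertible (box k C A B) :=
  TMul.isInvertible_tensorMod (BlowPn.isInvertible_pullback (p1 k C) hA)
    (BlowPn.isInvertible_pullback (p2 k C) hB)

theorem h_box (n : ℕ) :
    h k (box k C A B) n = ∑ pq ∈ Finset.HasAntidiagonal.antidiagonal n, h k A pq.1 * h k B pq.2 := by
  classical
  haveI : ∀ p, Module.Finite k (Coh.HH C A p) := FrobSplit.finite_hh k C hA
  haveI : ∀ p, Module.Finite k (Coh.HH C B p) := FrobSplit.finite_hh k C hB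
  obtain ⟨e⟩ := KunnethHH.nonempty_kunneth C C A (TMul.isQCoh_of_isInvertible hA) B
    (TMul.isQCoh_of_isInvertible hB) (Nakai.isFlatOver_field k _)
    (fun p => @Module.Flat.of_free k _ _ _ _ (Module.Free.of_divisionRing k _)) n
  refine e.finrank_eq.symm.trans ?_
  rw [← Finset.sum_coe_sort (Finset.HasAntidiagonal.antidiagonal n)]
  exact (Module.finrank_directSum k (fun pq : Finset.HasAntidiagonal.antidiagonal n =>
    Coh.HH C A pq.1.1 ⊗[k] Coh.HH C B pq.1.2)).trans
    (Finset.sum_congr rfl fun pq _ => Module.finrank_tensorProduct)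

theorem h_box_zero : h k (box k C A B) 0 = h k A 0 * h k B 0 := by
  rw [h_box hA hB 0]; simp

theorem subsingleton_box (hdim : topologicalKrullDim C ≤ 1) (hA1 : Subsingleton (Coh.HH C A 1))
    (hB1 : Subsingleton (Coh.HH C B 1)) (n : ℕ) (hn : 0 < n) :
    Subsingleton (Coh.HH (sq k C) (box k C A B) n) := by
  haveI := FrobSplit.finite_hh k (sq k C) (isInvertible_box hA hB) n
  refine Module.finrank_zero_iff.1 ((h_box hA hB n).trans ?_)
  refine Finset.sum_eq_zero fun pq hpq => ?_
  have hpq' := Finset.HasAntidiagonal.mem_antidiagonal.1 hpq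
  have hz : ∀ {M : C.Modules}, Subsingleton (Coh.HH C M 1) → ∀ j, 0 < j → h k M j = 0 := by
    intro M hM j hj
    obtain rfl | hj' := eq_or_lt_of_le (Nat.succ_le_of_lt hj)
    · exact CurveRR.h_eq_zero hM
    · exact CurveRR.h_eq_zero (CurveRR.subsingleton_of_two_le (k := k) hdim M j hj')
  rcases Nat.eq_zero_or_pos pq.1 with h0 | h0
  · rw [hz hB1 pq.2 (by omega), mul_zero]
  · rw [hz hA1 pq.1 h0, zero_mul]

theorem subsingleton_box_three (hdim : topologicalKrullDim C ≤ 1) (n : ℕ) (hn : 3 ≤ n) :
    Subsingleton (Coh.HH (sq k C) (box k C A B) n) := by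
  haveI := FrobSplit.finite_hh k (sq k C) (isInvertible_box hA hB) n
  refine Module.finrank_zero_iff.1 ((h_box hA hB n).trans ?_)
  refine Finset.sum_eq_zero fun pq hpq => ?_
  have hpq' := Finset.HasAntidiagonal.mem_antidiagonal.1 hpq
  rcases Nat.lt_or_ge pq.1 2 with h0 | h0
  · rw [CurveRR.h_eq_zero (CurveRR.subsingleton_of_two_le (k := k) hdim B pq.2 (by omega)), mul_zero]
  · rw [CurveRR.h_eq_zero (CurveRR.subsingleton_of_two_le (k := k) hdim A pq.1 h0), zero_mul]

theorem euler_box (hdim : topologicalKrullDim C ≤ 1) :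
    Curv2.euler k (sq k C) (box k C A B) = Curv2.euler k C A * Curv2.euler k C B := by
  rw [CurveRR.euler_eq_sum (box k C A B) 3 (subsingleton_box_three hA hB hdim),
    CurveRR.euler_eq hdim A, CurveRR.euler_eq hdim B]
  simp only [Finset.sum_range_succ, Finset.sum_range_zero, h_box hA hB,
    Finset.Nat.sum_antidiagonal_succ, Finset.Nat.antidiagonal_zero, Finset.sum_singleton]
  have hA2 : h k A 2 = 0 := CurveRR.h_eq_zero (CurveRR.subsingleton_of_two_le (k := k) hdim A 2 le_rfl)
  have hB2 : h k B 2 = 0 := CurveRR.h_eq_zero (CurveRR.subsingleton_of_two_le (k := k) hdim B 2 le_rfl)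
  simp only [zero_add, Nat.reduceAdd, hA2, hB2]
  push_cast
  ring

end Groth.Agent.CurveSq
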